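import Cfsg.Agent.H298.UThree.InSimple
import Cfsg.Agent.S1170
import Cfsg.Agent.StdU3.Main_mg
import Cfsg.Agent.StdU3.Tower.Final_mg_m3
import Cfsg.Agent.SylowL.SylowPSL
import Cfsg.Agent.TypeL3.Model
import Cfsg.Agent.TypeSpFour.Main
import Cfsg.Agent.OddHalf.D4.KPair_m3
import Cfsg.Agent.Lib.ProductSet
import Cfsg.Prelude.Def_TwoFusion
import Cfsg.Agent.S1347
import Cfsg.Agent.CpQuot.Quo
import Cfsg.Agent.FastGrp
import Cfsg.Agent.Prune
set_option linter.all false
prune_inst 0x7f00000000000000000000000000000000000000000000000000000000000000000000000000000000000000000000000000000000000000000000000000000000000000000000000000000000000000003fffffffffffffffffffffffffffbeffbdffffffff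
open scoped Cfsg.Agent.FastGrp

-- part: H298/UThree/Local
section
/-!
# S3151: the local analysis of S1771 for an involution of `E`

`L` simple, normal, `C(L) = 1`, `K ≤ L`, `e ∈ E`, `E ∩ L⟨e⟩ = ⟨e⟩`: then `e ∉ L` and `L` is `PSU₃`, `PSL₃` or
`PSp₄` in characteristic 2.
-/

set_option autoImplicit false
set_option linter.unusedSectionVars false

namespace Cfsg.Agent.H298.UThree

open Subgroup Cfsg.Agent.OddHalf.D4.Basic Cfsg.Agent.StdU3 Cfsg.Agent.StdL2.Setup
open Cfsg.Agent.SignalizersComponents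

universe u v

section Kind

/-- the possible simple groups -/
def Kind (L : Type*) [Group L] : Prop :=
  (∃ (F : Type) (_ : Field F) (_ : Fintype F) (q : ℕ), Fintype.card F = q ^ 2 ∧ Even q ∧ 4 ≤ q ∧
      Nonempty (L ≃* Cfsg.PSU 3 F q)) ∨
    (∃ (F : Type) (_ : Field F) (_ : Fintype F), CharP F 2 ∧
      Nonempty (L ≃* Matrix.ProjectiveSpecialLinearGroup (Fin 3) F)) ∨
    (∃ (F : Type) (_ : Field F) (_ : Fintype F), CharP F 2 ∧ 4 ≤ Fintype.card F ∧ Nonempty (L ≃* Cfsg.PSp 2 F))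

theorem Kind.congr {L M : Type*} [Group L] [Group M] (f : M ≃* L) (h : Kind L) : Kind M := by
  rcases h with ⟨F, i1, i2, q, h1, h2, h3, ⟨e⟩⟩ | ⟨F, i1, i2, h1, ⟨e⟩⟩ | ⟨F, i1, i2, h1, h2, ⟨e⟩⟩
  · exact Or.inl ⟨F, i1, i2, q, h1, h2, h3, ⟨f.trans e⟩⟩
  · exact Or.inr (Or.inl ⟨F, i1, i2, h1, ⟨f.trans e⟩⟩)
  · exact Or.inr (Or.inr ⟨F, i1, i2, h1, h2, ⟨f.trans e⟩⟩)

theorem kind_of_closed {L : Type u} [Group L] [Finite L] [IsSimpleGroup L] (S : Sylow 2 L) (U : Subgroup L)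
    (hU : Cfsg.IsStronglyClosed U (S : Subgroup L)) (hnc : ¬ IsMulCommutative U)
    (hcl : ⁅(⊤ : Subgroup U), ⊤⁆ ≤ Subgroup.center U) (h16 : 16 ≤ Nat.card U)
    (h3 : 3 ∣ Nat.card L) : Kind L := by
  have : Fact (Nat.Prime 2) := ⟨Nat.prime_two⟩
  have hp : IsPGroup 2 U := S.isPGroup'.to_le hU.1
  have h16' : 16 ∣ Nat.card L := by
    obtain ⟨k, hk⟩ := hp.exists_card_eq
    have h1 : 4 ≤ k := by
      by_contra hcon
      have h2 : Nat.card U ≤ 2 ^ 3 := by
        rw [hk]; exact Nat.pow_le_pow_right (by norm_num) (by omega)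
      omega
    refine Dvd.dvd.trans ?_ (Subgroup.card_subgroup_dvd_card U)
    rw [hk, show (16 : ℕ) = 2 ^ 4 by norm_num]
    exact pow_dvd_pow 2 h1
  rcases Cfsg.Agent.S1170.result S U hU hnc hcl with h | h | h | h | h | h
  · exfalso
    obtain ⟨K, _, _, hK, ⟨e⟩⟩ := h
    rw [Nat.card_congr e.toEquiv] at h16'
    exact EndLie.not_sixteen_dvd_psl hK h16'
  · exact Or.inl h
  · exact absurd h3 (EndLie.not_three_dvd_suzuki h)
  · exact Or.inr (Or.inl h)
  · exact Or.inr (Or.inr h)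
  · exfalso
    obtain ⟨e⟩ := h
    rw [Nat.card_congr e.toEquiv] at h16'
    have := Cfsg.Agent.StdSz.OutLie.card_A7
    omega

open Cfsg.Agent.SylowL.Lev Cfsg.Agent.SylowL.UT in
theorem ut_two_comm {F : Type*} [Field F] (x y : UT 2 F) : x * y = y * x := by
  have h : ∀ (g : UT 2 F) (i j : Fin 2), ¬ (i = 0 ∧ j = 1) → N g i j = 0 := by
    intro g i j hij
    have h1 := mem_lev'.1 (N_mem g) i j
    fin_cases i <;> fin_cases j <;> simp at hij h1 ⊢ <;> exact h1
  have h2 : ∀ x y : UT 2 F, N x * N y = 0 := by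
    intro x y
    ext i j
    rw [Matrix.mul_apply, Fin.sum_univ_two]
    (revert i j; simp [h, _root_.Fin.forall_fin_succ])
  rw [commute_iff, h2, h2]

/-- `PSL₂(q)`, `q` even, has abelian Sylow 2-subgroups -/
theorem sylow_comm {F : Type*} [Field F] [Fintype F] [CharP F 2]
    (P : Sylow 2 (Matrix.ProjectiveSpecialLinearGroup (Fin 2) F)) {x y : Matrix.ProjectiveSpecialLinearGroup (Fin 2) F}
    (hx : x ∈ (P : Subgroup (Matrix.ProjectiveSpecialLinearGroup (Fin 2) F)))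
    (hy : y ∈ (P : Subgroup (Matrix.ProjectiveSpecialLinearGroup (Fin 2) F))) : x * y = y * x := by
  have : Fact (Nat.Prime 2) := ⟨Nat.prime_two⟩
  obtain ⟨e⟩ := Cfsg.Agent.SylowL.SylowPSL.sylow_equiv 2 P
  have h1 := ut_two_comm (e ⟨x, hx⟩) (e ⟨y, hy⟩)
  rw [← map_mul, ← map_mul] at h1
  exact congrArg Subtype.val (e.injective h1)

theorem kind_of_ab {L : Type u} [Group L] [Finite L] [IsSimpleGroup L] (S : Sylow 2 L)
    (hS : ¬ IsMulCommutative (S : Subgroup L)) (W : Subgroup L) (hne : W ≠ ⊥)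
    (hcomm : IsMulCommutative W) (hcl : Cfsg.IsStronglyClosed W (S : Subgroup L))
    (h3 : 3 ∣ Nat.card L) : Kind L := by
  rcases Cfsg.Agent.S1169.result S W hne hcomm hcl with h | ⟨H, hH⟩
  · exact absurd h hS
  · have hna : ∃ a b : L, a * b ≠ b * a := by
      by_contra hcon
      push Not at hcon
      exact hS ⟨⟨fun a b => Subtype.ext (hcon a b)⟩⟩
    rcases Cfsg.Agent.S0222.result hna H hH with ⟨F, _, _, hchar, h4, he⟩ | h |
      ⟨F, _, _, q, hq, heven, h4, he⟩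
    · exfalso
      obtain ⟨e⟩ := he
      have : Fact (Nat.Prime 2) := ⟨Nat.prime_two⟩
      apply hS
      refine ⟨⟨fun x y => ?_⟩⟩
      have h1 : IsPGroup 2 ↥((S : Subgroup L).map e.toMonoidHom) := S.isPGroup'.map _
      obtain ⟨P, hP⟩ := h1.exists_le_sylow
      have h2 := sylow_comm P (hP ⟨x, x.2, rfl⟩) (hP ⟨y, y.2, rfl⟩)
      have h3 : e (x * y) = e (y * x) := by rw [map_mul, map_mul]; exact h2
      exact Subtype.ext (e.injective h3)
    · exact absurd h3 (EndLie.not_three_dvd_suzuki h)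
    · exact Or.inl ⟨F, inferInstance, inferInstance, q, hq, heven, h4, he⟩

end Kind

variable {G : Type u} [Group G] {E K : Subgroup G} {F : Type v} [Field F] [Fintype F] {n : ℕ}

/-- restriction to a subgroup -/
theorem Hyp.sub [Finite G] (h : Hyp E K F n) {H : Subgroup G} (hKH : K ≤ H) (hne : ∃ e ∈ E, e ∈ H ∧ e ≠ 1) :
    Hyp (E.subgroupOf H) (K.subgroupOf H) F n := by
  have f : ↥(K.subgroupOf H) ≃* ↥K := subgroupOfEquivOfLe hKH
  refine ⟨⟨?_, ?_, ?_, ?_, ?_, ?_, ?_, ?_⟩, h.hn, h.hF, ?_⟩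
  · obtain ⟨e, he, heH, he1⟩ := hne
    exact ⟨⟨e, heH⟩, mem_subgroupOf.mpr he, fun h1 => he1 (congrArg Subtype.val h1)⟩
  · intro e he
    exact Subtype.ext (h.c.sq _ (mem_subgroupOf.mp he))
  · intro e he he1 f hf x hx
    exact Subtype.ext (h.c.cen _ (mem_subgroupOf.mp he) (fun h1 => he1 (Subtype.ext h1)) _ (mem_subgroupOf.mp hf) _
      (congrArg Subtype.val hx))
  · intro e he k hk
    exact Subtype.ext (h.c.Kc _ (mem_subgroupOf.mp he) _ (mem_subgroupOf.mp hk))
  · intro e he he1 x hx k hk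
    rw [mem_subgroupOf]
    exact h.c.nor _ (mem_subgroupOf.mp he) (fun h1 => he1 (Subtype.ext h1)) _ (congrArg Subtype.val hx) _
      (mem_subgroupOf.mp hk)
  · intro e he he1 x hx hxK
    rw [mem_centralizer_subgroupOf hKH] at hxK
    obtain ⟨f, hf, w, hw, hwc, hxe⟩ := h.c.cK _ (mem_subgroupOf.mp he) (fun h1 => he1 (Subtype.ext h1)) _
      (congrArg Subtype.val hx) hxK
    have hwH := hKH hw
    have hfH : f ∈ H := by
      have h1 : f = x * w⁻¹ := by rw [hxe]; group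
      rw [h1]; exact mul_mem x.2 (inv_mem hwH)
    refine ⟨⟨f, hfH⟩, mem_subgroupOf.mpr hf, ⟨w, hwH⟩, mem_subgroupOf.mpr hw, ?_, Subtype.ext hxe⟩
    rw [mem_centralizer_subgroupOf hKH]
    exact hwc
  · exact Components.isQuasisimple_of_mulEquiv f.symm h.c.qs
  · rw [Nat.card_congr (centerCongr f).toEquiv]
    exact h.c.odd
  · obtain ⟨e⟩ := h.iso
    exact ⟨(quotCenter f).trans e⟩

/-- the configuration on `L⟨e⟩` -/
theorem Hyp.conf [Finite G] (h : Hyp E K F n) {L : Subgroup G} (hLn : L.Normal) (hLs : IsSimpleGroup ↥L)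
    (hna : ¬ IsMulCommutative ↥L) (hC : centralizer (L : Set G) = ⊥) (hKL : K ≤ L) {e : G} (he : e ∈ E)
    (he1 : e ≠ 1) (hE : ∀ f ∈ E, f ∈ L ⊔ zpowers e → f = 1 ∨ f = e) :
    Conf (L.subgroupOf (L ⊔ zpowers e)) (K.subgroupOf (L ⊔ zpowers e))
      (⟨e, (le_sup_right : zpowers e ≤ _) (mem_zpowers e)⟩ : ↥(L ⊔ zpowers e)) := by
  have hLH : L ≤ L ⊔ zpowers e := le_sup_left
  have hKH : K ≤ L ⊔ zpowers e := hKL.trans hLH
  have heH : e ∈ L ⊔ zpowers e := (le_sup_right : zpowers e ≤ _) (mem_zpowers e)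
  have f := subgroupOfEquivOfLe hLH
  have hord : orderOf e = 2 := orderOf_eq_prime (by rw [pow_two]; exact h.c.sq e he) he1
  have heC : e ∈ centralizer (K : Set G) := h.c.E_le he
  have h' : Hyp (E.subgroupOf (L ⊔ zpowers e)) (K.subgroupOf (L ⊔ zpowers e)) F n :=
    h.sub hKH ⟨e, he, heH, he1⟩
  refine ⟨inferInstance, f.isSimpleGroup, ?_, ?_, ?_, ?_, h'.isStandard, ?_, ?_, ?_⟩
  · intro h
    apply hna
    refine ⟨⟨fun x y => ?_⟩⟩
    have := h.is_comm.comm (f.symm x) (f.symm y)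
    have h2 := congrArg f this
    simpa only [_root_.map_mul, _root_.MulEquiv.apply_symm_apply] using h2
  · rw [← le_bot_iff]
    intro x hx
    have h1 := (mem_centralizer_subgroupOf hLH).mp hx
    rw [hC, mem_bot] at h1
    rw [mem_bot]
    exact Subtype.ext h1
  · rw [eq_top_iff]
    intro x _
    have h1 : (L ⊔ zpowers e) =
        (L.subgroupOf (L ⊔ zpowers e) ⊔ zpowers (⟨e, heH⟩ : ↥(L ⊔ zpowers e))).map (L ⊔ zpowers e).subtype := by
      rw [Subgroup.map_sup, subgroupOf_map_subtype, MonoidHom.map_zpowers]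
      have h2 : L ⊓ (L ⊔ zpowers e) = L := inf_eq_left.mpr hLH
      rw [h2]
      rfl
    have h3 : (x : G) ∈ (L.subgroupOf (L ⊔ zpowers e) ⊔
          zpowers (⟨e, heH⟩ : ↥(L ⊔ zpowers e))).map (L ⊔ zpowers e).subtype := h1 ▸ x.2
    obtain ⟨y, hy, hyx⟩ := h3
    have h4 : y = x := Subtype.ext hyx
    rw [← h4]
    exact hy
  · intro x hx
    exact mem_subgroupOf.mpr (hKL (mem_subgroupOf.mp hx))
  · rw [← Subgroup.orderOf_coe]; exact hord
  · exact (mem_centralizer_subgroupOf hKH).mpr heC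
  · intro R
    have h2 := h'.c.isSyl
    obtain ⟨P, hP⟩ := h2.toSylow
    have hcard : Nat.card ↥(R : Subgroup ↥(centralizer ((K.subgroupOf (L ⊔ zpowers e) :
        Subgroup ↥(L ⊔ zpowers e)) : Set ↥(L ⊔ zpowers e)))) = 2 := by
      rw [Nat.card_congr (Sylow.equiv R P).toEquiv, hP, Nat.card_congr (subgroupOfEquivOfLe h2.2).toEquiv]
      have h3 : E.subgroupOf (L ⊔ zpowers e) = zpowers (⟨e, heH⟩ : ↥(L ⊔ zpowers e)) := by
        apply le_antisymm
        · intro y hy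
          rcases hE _ (mem_subgroupOf.mp hy) y.2 with h4 | h4
          · have : y = 1 := Subtype.ext h4
            rw [this]; exact one_mem _
          · have : y = ⟨e, heH⟩ := Subtype.ext h4
            rw [this]; exact mem_zpowers _
        · rw [zpowers_le, mem_subgroupOf]
          exact he
      rw [h3, Nat.card_zpowers, ← Subgroup.orderOf_coe]
      exact hord
    have : Fact (Nat.Prime 2) := ⟨Nat.prime_two⟩
    exact isCyclic_of_prime_card hcard

/-- **the local analysis** -/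
theorem Hyp.local_analysis [Finite G] (h : Hyp E K F n) {L : Subgroup G} (hLn : L.Normal) (hLs : IsSimpleGroup ↥L)
    (hna : ¬ IsMulCommutative ↥L) (hC : centralizer (L : Set G) = ⊥) (hKL : K ≤ L) {e : G} (he : e ∈ E)
    (he1 : e ≠ 1) (hE : ∀ f ∈ E, f ∈ L ⊔ zpowers e → f = 1 ∨ f = e) : e ∉ L ∧ Kind ↥L := by
  have C := h.conf hLn hLs hna hC hKL he he1 hE
  have hLH : L ≤ L ⊔ zpowers e := le_sup_left
  have hKH : K ≤ L ⊔ zpowers e := hKL.trans hLH
  have heH : e ∈ L ⊔ zpowers e := (le_sup_right : zpowers e ≤ _) (mem_zpowers e)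
  have h' : Hyp (E.subgroupOf (L ⊔ zpowers e)) (K.subgroupOf (L ⊔ zpowers e)) F n :=
    h.sub hKH ⟨e, he, heH, he1⟩
  have hcardA : Nat.card (Cfsg.PSU 3 F (2 ^ n)) ∣ Nat.card ↥(K.subgroupOf (L ⊔ zpowers e)) := by
    obtain ⟨f⟩ := h'.iso
    rw [← Nat.card_congr f.toEquiv]
    exact Subgroup.card_quotient_dvd_card _
  have S := FinalGen.simple_of_conf C ((FinalGen.two_dvd_psu h.hn h.hF).trans hcardA)
  have hGl := FinalGen.glob_of_conf C
  have hCP : CharP F 2 := LZeroTop.charP_two h.hF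
  obtain ⟨D, Fl, hDt, hDA, -⟩ := LZeroTop.exists_fld S C.ht C.htA C.cyc h.hn h.hF h'.iso
  have hAE : Fl.A ≤ L.subgroupOf (L ⊔ zpowers e) := by rw [hDA]; exact C.le
  have hG : MainDef.Glob D.t (L.subgroupOf (L ⊔ zpowers e)) := by rw [hDt]; exact hGl
  obtain ⟨h2, h3⟩ := Main.out Fl hG hAE (fun e g c r heS h hg hs => by
      obtain ⟨X, hX⟩ := Next.exists_next D Fl.amb Fl.Sg Fl.Sg_two (fun s hs => Fl.Sg_norm s hs)
      exact GZeroMk.exists_gz h hg X (hs X) (fun s hs => hX e heS s hs))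
    (GOneMain.consOne Fl (L.subgroupOf (L ⊔ zpowers e)))
  rw [hDt] at h2
  have f : ↥(L.subgroupOf (L ⊔ zpowers e)) ≃* ↥L := subgroupOfEquivOfLe hLH
  have hS : IsSimpleGroup ↥(L.subgroupOf (L ⊔ zpowers e)) := C.simple
  have hthree : 3 ∣ Nat.card ↥(L.subgroupOf (L ⊔ zpowers e)) :=
    ((FinalRed.three_dvd_psu h.hF).trans hcardA).trans (Subgroup.card_dvd_of_le C.le)
  refine ⟨fun h4 => h2 (mem_subgroupOf.mpr h4), Kind.congr f.symm ?_⟩
  have : Fact (Nat.Prime 2) := ⟨Nat.prime_two⟩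
  rcases h3 with ⟨S', U, k1, k2, k3, k4⟩ | ⟨S', W, k1, k2, k3, -⟩
  · exact kind_of_closed S' U k1 k2 k3 k4 hthree
  · refine kind_of_ab S' ?_ W k3 k2 k1 hthree
    intro hc
    obtain ⟨x, hx, y, hy, hxy⟩ := Main.P_not_comm Fl
    have hP : IsPGroup 2 D.P := D.Q_two.to_le D.P_le
    have hPE : D.P ≤ L.subgroupOf (L ⊔ zpowers e) := fun p hp => hAE (Fl.P_A hp)
    have h5 : IsPGroup 2 (D.P.subgroupOf (L.subgroupOf (L ⊔ zpowers e))) := hP.comap_subtype
    obtain ⟨T, hT⟩ := h5.exists_le_sylow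
    have h6 : ∀ a b : ↥(L.subgroupOf (L ⊔ zpowers e)), a ∈ (T : Subgroup ↥(L.subgroupOf (L ⊔ zpowers e))) →
        b ∈ (T : Subgroup ↥(L.subgroupOf (L ⊔ zpowers e))) → a * b = b * a := by
      intro a b ha hb
      have e1 := Sylow.equiv T S'
      have h7 := hc.is_comm.comm (e1 ⟨a, ha⟩) (e1 ⟨b, hb⟩)
      rw [← map_mul, ← map_mul] at h7
      exact congrArg Subtype.val (e1.injective h7)
    apply hxy
    have h8 := h6 ⟨x, hPE hx⟩ ⟨y, hPE hy⟩ (hT (mem_subgroupOf.mpr hx)) (hT (mem_subgroupOf.mpr hy))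
    exact congrArg Subtype.val h8

end Cfsg.Agent.H298.UThree
end

-- part: H298/UThree/Swap
section
/-!
# S3151: `L` of type `PSL₃`, `PSp₄`: `e` interchanges the two elementary abelian subgroups
-/

set_option autoImplicit false
set_option linter.unusedSectionVars false

namespace Cfsg.Agent.H298.UThree

open Subgroup Cfsg.Agent.OddHalf.D4.Basic Cfsg.Agent.OddHalf.D4.U3.ParDefs
open Cfsg.Agent.OddHalf.D4.CommConj (cj mem_cj cj_mul card_cj cj_eq_of_mem_normalizer mem_normalizer_of_cj_eq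
  mem_cj_mul)
open Cfsg.Agent.OddHalf.D4.RkEnd.Tools (cj_one)

universe u v

section AB

variable {G : Type u} [Group G]

/-- the Sylow 2-subgroup `T = AB` of `PSL₃` or `PSp₄` -/
structure AB (T A B : Subgroup G) : Prop extends Cfsg.Agent.TypeL3.IsAB T A B where
  num : ∃ Q, Nat.card ↥A = Q * Nat.card ↥(A ⊓ B) ∧ Nat.card ↥B = Q * Nat.card ↥(A ⊓ B) ∧
    Q ≤ Nat.card ↥(A ⊓ B)

theorem AB.symm {T A B : Subgroup G} (h : AB T A B) : AB T B A := by
  obtain ⟨Q, h1, h2, h3⟩ := h.num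
  refine ⟨h.toIsAB.symm, Q, ?_, ?_, ?_⟩
  · rw [inf_comm]; exact h2
  · rw [inf_comm]; exact h1
  · rw [inf_comm]; exact h3

theorem charP_even {F : Type*} [Field F] [Fintype F] [CharP F 2] : Even (Fintype.card F) := by
  obtain ⟨n, -, hn⟩ := FiniteField.card F 2
  rw [hn]
  exact even_iff_two_dvd.mpr (dvd_pow_self 2 n.2.ne')

open Cfsg.Agent.TypeSpFour.Half in
theorem card_B {F : Type*} [Field F] {S A B : Subgroup G} {x y c d : F → G} (h : HalfC2 S A B x y c d) :
    Nat.card B = Nat.card F ^ 3 := by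
  have h1 : Nat.card F ^ 3 = Nat.card (F × F × F) := by
    rw [Nat.card_prod, Nat.card_prod]; ring
  rw [h1]
  have inj : ∀ {a γ δ a' γ' δ' : F}, y a * (c γ * d δ) = y a' * (c γ' * d δ') → a = a' ∧ γ = γ' ∧ δ = δ' := by
    intro a γ δ a' γ' δ' e
    have h2 : y (a - a') ∈ A := by
      have h3 : y (a - a') = y a * (y a')⁻¹ := by
        rw [sub_eq_add_neg, h.y_add, hom_neg h.y_add]
      have h4 : y a * (y a')⁻¹ = y a' * ((c γ' * d δ') * (c γ * d δ)⁻¹) * (y a')⁻¹ := by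
        have h5 : y a = y a' * (c γ' * d δ') * (c γ * d δ)⁻¹ := by rw [← e]; group
        rw [h5]; group
      have hz : (c γ' * d δ') * (c γ * d δ)⁻¹ ∈ A ⊓ B :=
        mul_mem (mul_mem (h.c_mem _) (h.d_mem _)) (inv_mem (mul_mem (h.c_mem _) (h.d_mem _)))
      rw [h3, h4]
      have h6 := h.toIsAB.comm_Z hz (h.B_le (h.y_mem a'))
      rw [← h6, mul_assoc, mul_inv_cancel, mul_one]
      exact (mem_inf.1 hz).1
    have h3 : a - a' = 0 := h.y_mem_A h2
    have h4 : a = a' := sub_eq_zero.mp h3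
    subst h4
    exact ⟨rfl, h.inj_Z2 (mul_left_cancel e)⟩
  refine (Nat.card_congr (Equiv.ofBijective
    (fun p : F × F × F => (⟨y p.1 * (c p.2.1 * d p.2.2), (h.mem_B' _).2 ⟨_, _, _, rfl⟩⟩ : B)) ⟨?_, ?_⟩)).symm
  · rintro ⟨a, γ, δ⟩ ⟨a', γ', δ'⟩ e
    obtain ⟨h1, h2, h3⟩ := inj (congrArg Subtype.val e)
    exact Prod.ext h1 (Prod.ext h2 h3)
  · rintro ⟨g, hg⟩
    obtain ⟨a, γ, δ, rfl⟩ := (h.mem_B' _).1 hg
    exact ⟨(a, γ, δ), rfl⟩

/-- for `PSL₃` and `PSp₄` -/
def KindAB (L : Type*) [Group L] : Prop :=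
  (∃ (F : Type) (_ : Field F) (_ : Fintype F), CharP F 2 ∧
      Nonempty (L ≃* Matrix.ProjectiveSpecialLinearGroup (Fin 3) F)) ∨
    (∃ (F : Type) (_ : Field F) (_ : Fintype F), CharP F 2 ∧ 4 ≤ Fintype.card F ∧ Nonempty (L ≃* Cfsg.PSp 2 F))

theorem exists_ab [Finite G] {L : Subgroup G} (hL : KindAB ↥L) {T : Subgroup G} (hT : IsSyl T L) :
    ∃ A B : Subgroup G, AB T A B := by
  have : Fact (Nat.Prime 2) := ⟨Nat.prime_two⟩
  obtain ⟨P, hP⟩ := hT.toSylow
  have e1 : ↥T ≃* ↥(P : Subgroup ↥L) := by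
    rw [hP]
    exact (subgroupOfEquivOfLe hT.le).symm
  rcases hL with ⟨F, _, _, hF, ⟨f⟩⟩ | ⟨F, _, _, hF, h4, ⟨f⟩⟩
  · have e2 : ↥(P : Subgroup ↥L) ≃* ↥((P.mapSurjective (f := f.toMonoidHom) f.surjective : Sylow 2 _) :
        Subgroup (Matrix.ProjectiveSpecialLinearGroup (Fin 3) F)) :=
      (P : Subgroup ↥L).equivMapOfInjective f.toMonoidHom f.injective
    obtain ⟨e3⟩ := Cfsg.Agent.SylowL.SylowPSL.sylow_equiv 2 (P.mapSurjective (f := f.toMonoidHom) f.surjective)
    obtain ⟨A, B, -, -, -, h1, -⟩ := Cfsg.Agent.TypeL3.exists_isL3 ((e1.trans e2).trans e3)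
    refine ⟨A, B, h1.toIsAB, Fintype.card F, ?_, ?_, ?_⟩
    · rw [h1.card_A, h1.card_Z, pow_two]
    · rw [h1.card_B, h1.card_Z, pow_two]
    · rw [h1.card_Z]
  · have e2 : ↥(P : Subgroup ↥L) ≃* ↥((P.mapSurjective (f := f.toMonoidHom) f.surjective : Sylow 2 _) :
        Subgroup (Cfsg.PSp 2 F)) :=
      (P : Subgroup ↥L).equivMapOfInjective f.toMonoidHom f.injective
    obtain ⟨A, B, x, y, c, d, h1⟩ := Cfsg.Agent.TypeSpFour.Model.exists_halfC2 charP_even h4
      (P.mapSurjective (f := f.toMonoidHom) f.surjective) T ⟨e1.trans e2⟩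
    have h2 := h1.card_Z
    have h3 := h1.card_A
    have h4' : Nat.card ↥B = Nat.card F ^ 3 := card_B h1
    refine ⟨A, B, h1.toIsAB, Nat.card F, ?_, ?_, ?_⟩
    · rw [h3, h2]; ring
    · rw [h4', h2]; ring
    · rw [h2, pow_two]
      exact Nat.le_mul_of_pos_left _ (Nat.card_pos)

/-- elements of order two acting on an elementary abelian 2-group -/
theorem card_le_sq [Finite G] {A : Subgroup G} (hA : ∀ a ∈ A, a * a = 1) {e : G} (he : e * e = 1)
    (heA : ∀ a ∈ A, e * a * e⁻¹ ∈ A) :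
    Nat.card ↥A ≤ Nat.card ↥(A ⊓ centralizer ({e} : Set G)) ^ 2 := by
  have hcomm : ∀ a ∈ A, ∀ b ∈ A, a * b = b * a := fun a ha b hb =>
    Cfsg.Agent.OddHalf.D4.RkEnd.Tools.comm_of_elem hA ha hb
  have hinv : ∀ a ∈ A, a⁻¹ = a := fun a ha => inv_eq_of_mul_eq_one_left (hA a ha)
  let f : ↥A →* ↥A := MonoidHom.mk' (fun a => ⟨(a : G) * (e * a * e⁻¹), mul_mem a.2 (heA a a.2)⟩) (by
    intro a b
    apply Subtype.ext
    show (a : G) * b * (e * (a * b) * e⁻¹) = a * (e * a * e⁻¹) * (b * (e * b * e⁻¹))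
    have h1 := hcomm _ (heA a a.2) b b.2
    calc (a : G) * b * (e * (a * b) * e⁻¹) = a * (b * (e * a * e⁻¹)) * (e * b * e⁻¹) := by group
      _ = a * (e * a * e⁻¹) * (b * (e * b * e⁻¹)) := by rw [← h1]; group)
  have h1 : Nat.card ↥A = Nat.card ↥f.ker * Nat.card ↥f.range := by
    rw [mul_comm, Subgroup.card_eq_card_quotient_mul_card_subgroup f.ker,
      Nat.card_congr (QuotientGroup.quotientKerEquivRange f).toEquiv]
  have key : ∀ a ∈ A, e * a * e⁻¹ = a → a ∈ A ⊓ centralizer ({e} : Set G) := by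
    intro a ha h
    refine mem_inf.mpr ⟨ha, ?_⟩
    rw [mem_centralizer_iff]
    rintro _ rfl
    rwa [mul_inv_eq_iff_eq_mul] at h
  have h2 : Nat.card ↥f.ker ≤ Nat.card ↥(A ⊓ centralizer ({e} : Set G)) := by
    apply Nat.card_le_card_of_injective (fun a : ↥f.ker =>
      (⟨((a : ↥A) : G), key _ (a : ↥A).2 (by
        have h3 : (((a : ↥A) : G)) * (e * (a : ↥A) * e⁻¹) = 1 := congrArg Subtype.val (f.mem_ker.mp a.2)
        have h4 := eq_inv_of_mul_eq_one_right h3
        rw [h4, hinv _ (a : ↥A).2])⟩ : ↥(A ⊓ centralizer ({e} : Set G))))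
    intro a b hab
    have h9 : ((a : ↥A) : G) = (b : ↥A) := by
      have h8 := hab
      simp only [Subtype.mk.injEq] at h8
      exact h8
    exact Subtype.ext (Subtype.ext h9)
  have h3 : Nat.card ↥f.range ≤ Nat.card ↥(A ⊓ centralizer ({e} : Set G)) := by
    apply Nat.card_le_card_of_injective (fun a : ↥f.range =>
      (⟨((a : ↥A) : G), key _ (a : ↥A).2 (by
        obtain ⟨b, hb⟩ := a.2
        have h4 : ((a : ↥A) : G) = (b : G) * (e * b * e⁻¹) := by rw [← hb]; rfl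
        rw [h4]
        have h5 := hcomm _ b.2 _ (heA b b.2)
        calc e * ((b : G) * (e * b * e⁻¹)) * e⁻¹ = (e * b * e⁻¹) * ((e * e) * b * (e * e)⁻¹) := by group
          _ = (e * b * e⁻¹) * b := by rw [he]; group
          _ = b * (e * b * e⁻¹) := h5.symm)⟩ : ↥(A ⊓ centralizer ({e} : Set G))))
    intro a b hab
    have h9 : ((a : ↥A) : G) = (b : ↥A) := by
      have h8 := hab
      simp only [Subtype.mk.injEq] at h8
      exact h8
    exact Subtype.ext (Subtype.ext h9)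
  rw [h1, pow_two]
  exact Nat.mul_le_mul h2 h3

theorem card_T [Finite G] {T A B : Subgroup G} (h : Cfsg.Agent.TypeL3.IsAB T A B) :
    Nat.card ↥T * Nat.card ↥(A ⊓ B) = Nat.card ↥A * Nat.card ↥B := by
  rw [← Cfsg.Agent.Lib.ProductSet.card_mul_card_inf A B]
  congr 1
  apply congrArg Nat.card
  apply congrArg
  ext x
  constructor
  · intro hx
    obtain ⟨a, ha, b, hb, rfl⟩ := h.prod x hx
    exact ⟨a, ha, b, hb, rfl⟩
  · rintro ⟨a, ha, b, hb, rfl⟩
    exact mul_mem (h.A_le ha) (h.B_le hb)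

end AB

section Env

variable {G : Type u} [Group G] [Finite G] {E K : Subgroup G} {F : Type v} [Field F] [Fintype F] {n : ℕ}

/-- (G8) -/
theorem Hyp.card_P (h : Hyp E K F n) {P : Subgroup G} (hP : IsSyl P K) : (2 ^ n) ^ 3 ≤ Nat.card ↥P := by
  obtain ⟨A, i1, i2, i3, σ, i4, π, I, v⟩ := h.env
  obtain ⟨p⟩ := v.p
  obtain ⟨k, hk, hk2⟩ := v.r.amb.exists_cj p (v.r.im_syl hP)
  rw [← p.card_S, ← hk2, card_cj]
  unfold im
  have h1 : Nat.card ↥((P.subgroupOf (normalizer (K : Set G))).map π) ≤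
      Nat.card ↥(P.subgroupOf (normalizer (K : Set G))) :=
    Nat.card_le_card_of_surjective _ (π.subgroupMap_surjective (P.subgroupOf (normalizer (K : Set G))))
  refine h1.trans ?_
  apply Nat.card_le_card_of_injective
    (fun (x : ↥(P.subgroupOf (normalizer (K : Set G)))) => (⟨((x : ↥(normalizer (K : Set G))) : G), mem_subgroupOf.mp x.2⟩ : ↥P))
  intro x y hxy
  have h9 : ((x : ↥(normalizer (K : Set G))) : G) = (y : ↥(normalizer (K : Set G))) := by
    have h8 := hxy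
    simp only [Subtype.mk.injEq] at h8
    exact h8
  exact Subtype.ext (Subtype.ext h9)

end Env

variable {G : Type u} [Group G] [Finite G] {E K : Subgroup G} {F : Type v} [Field F] [Fintype F] {n : ℕ}

theorem swap_arith {q Q Z a y p pa t : ℕ} (hq : 4 ≤ q) (hZ : 0 < Z) (ha0 : 0 < a) (hQZ : Q ≤ Z) (ha : a = Q * Z)
    (hay : a ≤ y ^ 2) (hy : y ≤ 2 * q) (hp : q ^ 3 ≤ p) (hpa : pa ≤ q) (ht : t * Z = a * a)
    (hpt : p * a ≤ t * pa) : False := by
  have h1 : q ^ 2 ≤ Q := by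
    have h2 : t = Q * Q * Z := by
      apply Nat.eq_of_mul_eq_mul_right hZ
      rw [ht, ha]; ring
    by_contra hcon
    push Not at hcon
    have hQ : 0 < Q := by
      rcases Nat.eq_zero_or_pos Q with h0 | h0
      · rw [ha, h0, zero_mul] at ha0
        omega
      · exact h0
    have h3 : p * (Q * Z) ≤ Q * Q * Z * pa := by rw [← ha, ← h2]; exact hpt
    have h4 : (Q * Z) * p ≤ (Q * Z) * (Q * pa) := by
      calc (Q * Z) * p = p * (Q * Z) := by ring
        _ ≤ Q * Q * Z * pa := h3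
        _ = (Q * Z) * (Q * pa) := by ring
    have h5 := Nat.le_of_mul_le_mul_left h4 (Nat.mul_pos hQ hZ)
    have h6 : q ^ 3 ≤ Q * q := hp.trans (h5.trans (Nat.mul_le_mul_left _ hpa))
    have h7 : q * q ^ 2 ≤ q * Q := by
      calc q * q ^ 2 = q ^ 3 := by ring
        _ ≤ Q * q := h6
        _ = q * Q := by ring
    exact absurd (Nat.le_of_mul_le_mul_left h7 (by omega)) (by omega)
  have h2 : Q * Q ≤ (2 * q) * (2 * q) := by
    calc Q * Q ≤ Q * Z := Nat.mul_le_mul_left _ hQZ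
      _ = a := ha.symm
      _ ≤ y ^ 2 := hay
      _ = y * y := by ring
      _ ≤ (2 * q) * (2 * q) := Nat.mul_le_mul hy hy
  have h3 : Q ≤ 2 * q := Nat.mul_self_le_mul_self_iff.mp h2
  have h4 : q ^ 2 ≤ 2 * q := h1.trans h3
  nlinarith only [hq, h1, h3]

/-- **`e` interchanges `A` and `B`** -/
theorem Hyp.swap (h : Hyp E K F n) {L : Subgroup G} (hEL : ∀ f ∈ E, f ∈ L → f = 1)
    {P T A B : Subgroup G} (hP : IsSyl P K) (hTL : T ≤ L) (hPT : P ≤ T) (hAB : AB T A B) {e : G}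
    (he : e ∈ E) (he1 : e ≠ 1) (heT : cj e T = T) : cj e A = B := by
  have hee := h.c.sq e he
  obtain ⟨Q, hA, hB, hQ⟩ := hAB.num
  have hcard : Nat.card ↥A = Nat.card ↥B := by rw [hA, hB]
  have hsub : cj e A ≤ T := by
    rw [← heT]
    rintro _ ⟨a, ha, rfl⟩
    exact mem_cj_mul (hAB.A_le ha)
  have hsq : ∀ x ∈ cj e A, x * x = 1 := by
    rintro _ ⟨a, ha, rfl⟩
    show e * a * e⁻¹ * (e * a * e⁻¹) = 1
    calc e * a * e⁻¹ * (e * a * e⁻¹) = e * (a * a) * e⁻¹ := by group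
      _ = 1 := by rw [hAB.A_sq a ha]; group
  rcases hAB.le_or_le hsub hsq with h1 | h1
  swap
  · exact eq_of_le_of_card_ge h1 (by rw [card_cj, hcard])
  exfalso
  have heA : ∀ a ∈ A, e * a * e⁻¹ ∈ A := fun a ha => h1 (mem_cj_mul ha)
  have k1 := card_le_sq hAB.A_sq hee heA
  have k2 : Nat.card ↥(A ⊓ centralizer ({e} : Set G)) ≤ 2 * 2 ^ n := by
    have hc : ∀ y ∈ A ⊓ centralizer ({e} : Set G), y * e = e * y := fun y hy =>
      (mem_centralizer_iff.mp (mem_inf.mp hy).2 e rfl).symm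
    apply h.card_le
    · intro y hy
      exact hAB.A_sq y (mem_inf.mp hy).1
    · intro y hy
      rw [mem_normalizer_iff]
      intro k
      constructor
      · exact fun hk => h.c.nor e he he1 y (hc y hy) k hk
      · intro hk
        have h2 := h.c.nor e he he1 y⁻¹ (by
          have := hc y hy
          calc y⁻¹ * e = y⁻¹ * (e * y) * y⁻¹ := by group
            _ = y⁻¹ * (y * e) * y⁻¹ := by rw [this]
            _ = e * y⁻¹ := by group) _ hk
        have e1 : y⁻¹ * (y * k * y⁻¹) * y⁻¹⁻¹ = k := by group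
        rwa [e1] at h2
    · intro y hy hyC
      have h2 := h.c.mem_E he he1 (hc y hy) hyC (Two.of_sq (hAB.A_sq y (mem_inf.mp hy).1))
      exact hEL y h2 (hTL (hAB.A_le (mem_inf.mp hy).1))
  have k3 := h.card_P hP
  have k4 : Nat.card ↥(P ⊓ A) ≤ 2 ^ n :=
    h.card_le' (fun y hy => hAB.A_sq y (mem_inf.mp hy).2) (inf_le_left.trans hP.le)
  have k5 := card_T hAB.toIsAB
  rw [← hcard] at k5
  have k6 := Cfsg.Agent.OddHalf.D4.RkEnd.Tools.card_inf_ge hPT hAB.A_le
  have hq : 4 ≤ 2 ^ n := by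
    calc 4 = 2 ^ 2 := by norm_num
      _ ≤ 2 ^ n := Nat.pow_le_pow_right (by norm_num) h.hn
  exact swap_arith hq Nat.card_pos Nat.card_pos hQ hA k1 k2 k3 k4 k5 k6

end Cfsg.Agent.H298.UThree
end

-- part: H298/UThree/Fusion
section
/-!
# S3151: `|E| ≥ 4` and `N(E P) ≤ N(K)` (`P ∈ Syl₂(K)`) imply that `E` is strongly closed
-/

set_option autoImplicit false
set_option linter.unusedSectionVars false

namespace Cfsg.Agent.H298.UThree

open Subgroup Cfsg.Agent.OddHalf.D4.Basic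
open Cfsg.Agent.OddHalf.D4.CommConj (cj mem_cj cj_mul card_cj cj_eq_of_mem_normalizer mem_normalizer_of_cj_eq
  mem_cj_mul)
open Cfsg.Agent.OddHalf.D4.RkEnd.Tools

universe u v

variable {G : Type u} [Group G] [Finite G] {E K E' K' : Subgroup G} {F : Type v} [Field F] [Fintype F] {n : ℕ}

theorem zpowers_two {z : G} (hz : Two z) : IsPGroup 2 ↥(zpowers z) := by
  obtain ⟨k, hk⟩ := hz
  rw [IsPGroup.iff_card]
  obtain ⟨m, -, hm⟩ := (Nat.dvd_prime_pow Nat.prime_two).mp (orderOf_dvd_of_pow_eq_one hk)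
  exact ⟨m, by rw [Nat.card_zpowers, hm]⟩

/-- `E` acts on `K'` as inner automorphisms -/
theorem inner_form (h : Hyp E K F n) (h' : Hyp E' K' F n) (hEE : ∀ e ∈ E, ∀ f ∈ E', e * f = f * e)
    (hE : ∀ f ∈ E, f ∈ centralizer (K' : Set G) → f = 1) (h4 : ∃ e ∈ E, ∃ f ∈ E, e ≠ 1 ∧ f ≠ 1 ∧ e ≠ f) :
    ∃ P, IsSyl P K' ∧ ∃ z ∈ P, z ≠ 1 ∧ z * z = 1 ∧ (∃ e ∈ E, e ≠ 1 ∧ ∃ f ∈ E', e = z * f) ∧
      ∀ s ∈ P, ∀ f ∈ E, s * f = f * s := by
  obtain ⟨x, hx, hx1⟩ := h'.c.ne
  have hN : ∀ e ∈ E, e ∈ normalizer (K' : Set G) := by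
    intro e he
    apply mem_normalizer_of_cj_eq
    apply eq_of_le_of_card_ge
    · rintro _ ⟨k, hk, rfl⟩
      exact h'.c.nor x hx hx1 e (hEE e he x hx) k hk
    · rw [card_cj]
  have key : ∃ e ∈ E, e ≠ 1 ∧ ∃ k ∈ K', k⁻¹ * e ∈ centralizer (K' : Set G) := by
    obtain ⟨e, he, f, hf, he1, hf1, hef⟩ := h4
    rcases h'.inner_three (hN e he) (hN f hf) (h.c.sq e he) (h.c.sq f hf) (h.c.E_comm he hf) with h1 | h1 | h1
    · exact ⟨e, he, he1, h1⟩
    · exact ⟨f, hf, hf1, h1⟩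
    · refine ⟨e * f, mul_mem he hf, ?_, h1⟩
      intro h2
      apply hef
      have h3 := h.c.sq f hf
      rw [← h3] at h2
      exact mul_right_cancel h2
  obtain ⟨e, he, he1, k, hk, hke⟩ := key
  have hxk : x * k = k * x := h'.c.Kc x hx k hk
  have hxe := hEE e he x hx
  obtain ⟨f, hf, w, hw, hwc, hfw⟩ := h'.c.cK x hx hx1 (k⁻¹ * e) (by
    calc k⁻¹ * e * x = k⁻¹ * (x * e) := by rw [← hxe]; group
      _ = k⁻¹ * (x * k) * k⁻¹ * e := by group
      _ = x * (k⁻¹ * e) := by rw [hxk]; group) hke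
  have hfw' : f * w = w * f := h'.c.Kc f hf w hw
  have hez : e = k * w * f := by
    calc e = k * (k⁻¹ * e) := by group
      _ = k * (f * w) := by rw [hfw]
      _ = k * w * f := by rw [hfw']; group
  have hzK : k * w ∈ K' := mul_mem hk hw
  have hf2 := h'.c.sq f hf
  have hze : k * w = e * f := by
    rw [hez, mul_assoc, hf2, mul_one]
  have hz2 : k * w * (k * w) = 1 := by
    rw [hze]
    calc e * f * (e * f) = e * (f * e) * f := by group
      _ = (e * e) * (f * f) := by rw [← hEE e he f hf]; group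
      _ = 1 := by rw [h.c.sq e he, hf2, one_mul]
  have hz1 : k * w ≠ 1 := by
    intro h1
    rw [h1, one_mul] at hez
    exact he1 (hE e he (by rw [hez]; exact h'.c.E_le hf))
  obtain ⟨P, hP, hzP⟩ := exists_isSyl (M := K') (zpowers_two (Two.of_sq hz2)) (by rwa [zpowers_le])
  have hz : k * w ∈ P := hzP (mem_zpowers _)
  refine ⟨P, hP, k * w, hz, hz1, hz2, ⟨e, he, he1, f, hf, hez⟩, ?_⟩
  intro s hs a ha
  apply h.c.cen e he he1 a ha
  have h1 := h'.comm_P hP hz hz2 hs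
  have h2 := h'.c.Kc f hf s (hP.le hs)
  calc s * e = s * (k * w) * f := by rw [hez]; group
    _ = k * w * (s * f) := by rw [← h1]; group
    _ = e * s := by rw [← h2, hez]; group

/-- 2-subgroups of `C(E) ∩ C(E')` -/
theorem le_of_inner (h : Hyp E K F n) {P : Subgroup G} (hP : IsSyl P K) {z : G} (hz : z ∈ P) (hz1 : z ≠ 1)
    (hz2 : z * z = 1) {e' : G} (hcen' : ∀ f ∈ E', ∀ x, x * e' = e' * x → x * f = f * x)
    {f : G} (hf : f ∈ E) (hef : e' = z * f) {R : Subgroup G} (hR : IsPGroup 2 ↥R)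
    (hRE : ∀ r ∈ R, ∀ e ∈ E, r * e = e * r) (hRE' : ∀ r ∈ R, r * e' = e' * r)
    (hn : ∀ k : G, (∀ e ∈ E, k * e = e * k) → (∀ e ∈ E', k * e = e * k) → ∀ r ∈ R, k * r * k⁻¹ ∈ R) :
    R ≤ E ⊔ P := by
  obtain ⟨t, ht, ht1⟩ := h.c.ne
  have hcomm : ∀ e ∈ E, ∀ p ∈ P, e * p = p * e := fun e he p hp => h.c.Kc e he p (hP.le hp)
  intro q hq
  obtain ⟨s, hs, hsq⟩ := h.le_of hP hz hz1 hz2 hR (by
    intro r hr
    apply mem_normalizer_of_cj_eq
    apply eq_of_le_of_card_ge
    · rintro _ ⟨k, hk, rfl⟩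
      exact h.c.nor t ht ht1 r (hRE r hr t ht) k hk
    · rw [card_cj]) (by
    intro r hr
    have h1 := hRE' r hr
    have h2 := hRE r hr f hf
    rw [hef] at h1
    calc r * z = r * (z * f) * f⁻¹ := by group
      _ = z * f * r * f⁻¹ := by rw [h1]
      _ = z * (f * r) * f⁻¹ := by group
      _ = z * r := by rw [← h2]; group) (by
    intro k hk hkz r hr
    have hkE : ∀ e ∈ E, k * e = e * k := fun e he => (h.c.Kc e he k hk).symm
    refine hn k hkE ?_ r hr
    intro g hg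
    apply hcen' g hg
    rw [hef]
    calc k * (z * f) = (k * z) * f := by group
      _ = z * (k * f) := by rw [hkz]; group
      _ = z * f * k := by rw [hkE f hf]; group) hq
  obtain ⟨g, hg, w, hw, hwc, hgw⟩ := h.c.cK t ht ht1 (s⁻¹ * q) (by
    have h1 := hcomm t ht s hs
    have h2 := hRE q hq t ht
    calc s⁻¹ * q * t = s⁻¹ * (t * q) := by rw [← h2]; group
      _ = s⁻¹ * (t * s) * s⁻¹ * q := by group
      _ = t * (s⁻¹ * q) := by rw [h1]; group) hsq
  have hq' : q = s * g * w := by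
    calc q = s * (s⁻¹ * q) := by group
      _ = s * g * w := by rw [hgw]; group
  have hsg : Two (s * g) := (Two.of_mem hP.two hs).mul (Two.of_mem h.c.E_two hg) (hcomm g hg s hs).symm
  have hwsg : s * g * w = w * (s * g) := by
    have h1 := mem_centralizer_iff.mp hwc s (hP.le hs)
    have h2 := h.c.Kc g hg w hw
    calc s * g * w = s * (g * w) := by group
      _ = (s * w) * g := by rw [h2]; group
      _ = w * (s * g) := by rw [h1]; group
  have hw1 : w = 1 := by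
    apply h.c.w_eq_one hw hwc
    have e : w = (s * g)⁻¹ * q := by rw [hq']; group
    rw [e]
    refine hsg.inv.mul (Two.of_mem hR hq) ?_
    rw [hq']
    calc (s * g)⁻¹ * (s * g * w) = w := by group
      _ = w * (s * g) * (s * g)⁻¹ := by group
      _ = s * g * w * (s * g)⁻¹ := by rw [hwsg]
  rw [hq', hw1, mul_one, hcomm g hg s hs |>.symm]
  exact mul_mem (mem_sup_left hg) (mem_sup_right hs)

/-- `E P` is a 2-group -/
theorem sup_two {P : Subgroup G} (hE : IsPGroup 2 ↥E) (hP : IsPGroup 2 ↥P)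
    (hcomm : ∀ e ∈ E, ∀ p ∈ P, e * p = p * e) : IsPGroup 2 ↥(E ⊔ P : Subgroup G) := by
  have h1 : E ≤ normalizer (P : Set G) := by
    intro e he
    rw [mem_normalizer_iff]
    intro p
    constructor
    · intro hp
      rw [hcomm e he p hp, mul_inv_cancel_right]
      exact hp
    · intro hp
      have h2 := hcomm _ (inv_mem he) _ hp
      have e1 : p = e⁻¹ * (e * p * e⁻¹) * e⁻¹⁻¹ := by group
      rw [h2] at e1
      rw [e1]
      simpa only [_root_.inv_inv, _root_.inv_mul_cancel_right] using hp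
  rintro ⟨x, hx⟩
  have hx' : x ∈ ((E ⊔ P : Subgroup G) : Set G) := hx
  rw [coe_mul_of_left_le_normalizer_right E P h1] at hx'
  obtain ⟨e, he, p, hp, rfl⟩ := hx'
  obtain ⟨k, hk⟩ := (Two.of_mem hE he).mul (Two.of_mem hP hp) (hcomm e he p hp)
  exact ⟨k, Subtype.ext hk⟩

/-- the core of the fusion argument -/
theorem fusion_core (h : Hyp E K F n) (h4 : ∃ e ∈ E, ∃ f ∈ E, e ≠ 1 ∧ f ≠ 1 ∧ e ≠ f)
    (hN : ∀ P, IsSyl P K → normalizer ((E ⊔ P : Subgroup G) : Set G) ≤ normalizer (K : Set G))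
    {e g : G} (he : e ∈ E) (he1 : e ≠ 1) (hx : ∀ f ∈ E, g * e * g⁻¹ * f = f * (g * e * g⁻¹)) :
    g * e * g⁻¹ ∈ E := by
  by_contra hxE
  set x := g * e * g⁻¹ with hxdef
  have h' := h.conj g
  have hxE' : x ∈ cj g E := mem_cj_mul he
  have hx1 : x ≠ 1 := by
    intro h1
    apply he1
    have : e = g⁻¹ * (g * e * g⁻¹) * g := by group
    rw [this, ← hxdef, h1]; group
  have hEE : ∀ e ∈ E, ∀ f ∈ cj g E, e * f = f * e := by
    intro a ha b hb
    exact h'.c.cen x hxE' hx1 b hb a (hx a ha).symm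
  have hneK : cj g K ≠ K := by
    intro h1
    apply hxE
    refine h.c.mem_E he he1 (hx e he) ?_ (Two.of_mem h'.c.E_two hxE')
    have h2 := h'.c.E_le hxE'
    rwa [h1] at h2
  have ord : ∀ y : G, y * y = 1 → y ≠ 1 → orderOf y = 2 := fun y h1 h2 =>
    orderOf_eq_prime (by rw [pow_two]; exact h1) h2
  have hE : ∀ f ∈ E, f ∈ centralizer (cj g K : Set G) → f = 1 := by
    intro f hf hfc
    by_contra hf1
    exact hneK (h.c.eq_of h.na (h.c.E_le hf) (ord f (h.c.sq f hf) hf1) hfc)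
  have hE' : ∀ f ∈ cj g E, f ∈ centralizer (K : Set G) → f = 1 := by
    intro f hf hfc
    by_contra hf1
    exact hneK (h.c.eq_of h.na hfc (ord f (h'.c.sq f hf) hf1) (h'.c.E_le hf))
  have h4' : ∃ e ∈ cj g E, ∃ f ∈ cj g E, e ≠ 1 ∧ f ≠ 1 ∧ e ≠ f := by
    obtain ⟨a, ha, b, hb, ha1, hb1, hab⟩ := h4
    refine ⟨g * a * g⁻¹, mem_cj_mul ha, g * b * g⁻¹, mem_cj_mul hb, ?_, ?_, ?_⟩
    · intro h1
      apply ha1
      have : a = g⁻¹ * (g * a * g⁻¹) * g := by group
      rw [this, h1]; group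
    · intro h1
      apply hb1
      have : b = g⁻¹ * (g * b * g⁻¹) * g := by group
      rw [this, h1]; group
    · intro h1
      apply hab
      have : a = g⁻¹ * (g * a * g⁻¹) * g := by group
      rw [this, h1]; group
  obtain ⟨P', hP', z', hz', hz1', hz2', ⟨e₀, he₀, he₀1, f', hf', hef'⟩, hc'⟩ := inner_form h h' hEE hE h4
  obtain ⟨P, hP, z, hz, hz1, hz2, ⟨e₀', he₀', he₀1', f, hf, hef⟩, hc⟩ :=
    inner_form h' h (fun a ha b hb => (hEE b hb a ha).symm) hE' h4'
  have hEP : ∀ e ∈ E, ∀ p ∈ P, e * p = p * e := fun e he p hp => h.c.Kc e he p (hP.le hp)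
  have hEP' : ∀ e ∈ cj g E, ∀ p ∈ P', e * p = p * e := fun e he p hp => h'.c.Kc e he p (hP'.le hp)
  have two1 := sup_two h.c.E_two hP.two hEP
  have two2 := sup_two h'.c.E_two hP'.two hEP'
  -- the second group lies in the first
  have le1 : cj g E ⊔ P' ≤ E ⊔ P := by
    refine le_of_inner (E' := cj g E) h hP hz hz1 hz2
      (fun a ha y hy => h'.c.cen e₀' he₀' he₀1' a ha y hy) hf hef two2 ?_ ?_ ?_
    · intro r hr e he
      have h1 : cj g E ⊔ P' ≤ centralizer (E : Set G) := by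
        refine sup_le ?_ ?_
        · intro y hy
          rw [mem_centralizer_iff]
          intro a ha
          exact hEE a ha y hy
        · intro y hy
          rw [mem_centralizer_iff]
          intro a ha
          exact (hc' y hy a ha).symm
      exact (mem_centralizer_iff.mp (h1 hr) e he).symm
    · intro r hr
      have h1 : cj g E ⊔ P' ≤ centralizer (cj g E : Set G) := by
        refine sup_le ?_ ?_
        · intro y hy
          rw [mem_centralizer_iff]
          intro a ha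
          exact h'.c.E_comm ha hy
        · intro y hy
          rw [mem_centralizer_iff]
          intro a ha
          exact hEP' a ha y hy
      exact (mem_centralizer_iff.mp (h1 hr) e₀' he₀').symm
    · intro k hkE hkE' r hr
      -- `k` normalises `P'`
      have hkN : k ∈ normalizer (cj g K : Set G) := by
        apply mem_normalizer_of_cj_eq
        apply eq_of_le_of_card_ge
        · rintro _ ⟨y, hy, rfl⟩
          exact h'.c.nor x hxE' hx1 k (hkE' x hxE') y hy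
        · exact (card_cj _ _).ge
      have hkz : k * z' * k⁻¹ = z' := by
        have h1 : z' = e₀ * f' := by
          rw [hef', mul_assoc, h'.c.sq f' hf', mul_one]
        rw [mul_inv_eq_iff_eq_mul, h1]
        calc k * (e₀ * f') = (k * e₀) * f' := by group
          _ = e₀ * (k * f') := by rw [hkE e₀ he₀]; group
          _ = e₀ * f' * k := by rw [hkE' f' hf']; group
      have hkP : cj k P' = P' := h'.ti_P hP' hkN hz' hz1' (by rw [hkz]; exact hz')
      have hkE2 : cj k (cj g E) = cj g E := by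
        apply eq_of_le_of_card_ge
        · rintro _ ⟨y, hy, rfl⟩
          show k * y * k⁻¹ ∈ _
          rw [hkE' y hy, mul_inv_cancel_right]
          exact hy
        · exact (card_cj _ _).ge
      have h2 : cj k (cj g E ⊔ P') = cj g E ⊔ P' := by
        show Subgroup.map _ _ = _
        rw [Subgroup.map_sup]
        show cj k (cj g E) ⊔ cj k P' = _
        rw [hkE2, hkP]
      rw [← h2]
      exact mem_cj_mul hr
  -- they are conjugate
  have hPg : IsSyl (cj g P) (cj g K) := hP.cj g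
  obtain ⟨m, hm, hmP⟩ := hP'.conj_into hPg.two hPg.le
  have hmP' : cj m (cj g P) = P' := by
    have h1 : cj m (cj g P) ≤ P' := by
      rintro _ ⟨y, hy, rfl⟩
      exact hmP y hy
    apply eq_of_le_of_card_ge h1
    rw [card_cj]
    exact card_le_of_syl hPg hP'.two hP'.le
  have hmE : cj m (cj g E) = cj g E := by
    apply eq_of_le_of_card_ge
    · rintro _ ⟨y, hy, rfl⟩
      show m * y * m⁻¹ ∈ _
      rw [← h'.c.Kc y hy m hm, mul_inv_cancel_right]
      exact hy
    · exact (card_cj _ _).ge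
  have h2 : cj (m * g) (E ⊔ P) = cj g E ⊔ P' := by
    rw [cj_mul]
    show Subgroup.map _ (Subgroup.map _ _) = _
    rw [Subgroup.map_sup, Subgroup.map_sup]
    show cj m (cj g E) ⊔ cj m (cj g P) = _
    rw [hmE, hmP']
  have h3 : cj (m * g) (E ⊔ P) = E ⊔ P := by
    rw [h2]
    apply eq_of_le_of_card_ge le1
    rw [← h2, card_cj]
  have h5 : m * g ∈ normalizer (K : Set G) := hN P hP (mem_normalizer_of_cj_eq h3)
  apply hneK
  have h6 := cj_eq_of_mem_normalizer h5
  rw [cj_mul] at h6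
  have h7 : cj m (cj g K) = cj g K := cj_eq_of_mem_normalizer (le_normalizer hm)
  rw [← h7]
  exact h6

/-- **`E` is strongly closed in a Sylow 2-subgroup.** -/
theorem strongly_closed (h : Hyp E K F n) (h4 : ∃ e ∈ E, ∃ f ∈ E, e ≠ 1 ∧ f ≠ 1 ∧ e ≠ f)
    (hN : ∀ P, IsSyl P K → normalizer ((E ⊔ P : Subgroup G) : Set G) ≤ normalizer (K : Set G)) :
    ∃ S : Sylow 2 G, Cfsg.IsStronglyClosed E (S : Subgroup G) := by
  have hf2 : Fact (Nat.Prime 2) := ⟨Nat.prime_two⟩
  obtain ⟨t, ht, ht1⟩ := h.c.ne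
  have hEC : E ≤ centralizer ({t} : Set G) := by
    intro e he
    rw [mem_cent1]
    exact h.c.E_comm he ht
  obtain ⟨S, hS, hES⟩ := exists_isSyl h.c.E_two hEC
  have hcE : ∀ x ∈ centralizer ({t} : Set G), ∀ f ∈ E, x * f = f * x := by
    intro x hx f hf
    exact h.c.cen t ht ht1 f hf x (mem_cent1.mp hx)
  -- closure in `S`
  have hcl : ∀ e ∈ E, ∀ g : G, g * e * g⁻¹ ∈ S → g * e * g⁻¹ ∈ E := by
    intro e he g hg
    by_cases he1 : e = 1
    · rw [he1]
      have : g * 1 * g⁻¹ = 1 := by group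
      rw [this]
      exact one_mem E
    · exact fusion_core h h4 hN he he1 (hcE _ (hS.le hg))
  -- `S` is a Sylow subgroup of `G`
  obtain ⟨T, hST⟩ := hS.two.exists_le_sylow
  have hTS : S = (T : Subgroup G) := by
    symm
    apply Cfsg.Agent.Blocks.SylowIn.eq_of_normalizer_inf_le T.2 hST
    intro x hx
    obtain ⟨hx1, hx2⟩ := mem_inf.mp hx
    have hxE : ∀ e ∈ E, x * e * x⁻¹ ∈ E := by
      intro e he
      apply hcl e he
      exact (mem_normalizer_iff.mp hx1 e).mp (hES he)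
    have hxN : x ∈ normalizer (E : Set G) := by
      apply mem_normalizer_of_cj_eq
      apply eq_of_le_of_card_ge
      · rintro _ ⟨y, hy, rfl⟩
        exact hxE y hy
      · exact (card_cj _ _).ge
    -- a 2-group normalising `E`
    have hR2 : IsPGroup 2 ↥((T : Subgroup G) ⊓ normalizer (E : Set G) : Subgroup G) := T.2.to_le inf_le_left
    have hER : E ≤ (T : Subgroup G) ⊓ normalizer (E : Set G) := le_inf (hES.trans hST) le_normalizer
    obtain ⟨z, hz, hz2, hzc⟩ := exists_central_invol hR2 hER (by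
      rintro rfl
      exact ht1 (mem_bot.mp ht)) (fun r hr e he => (mem_normalizer_iff.mp (mem_inf.mp hr).2 e).mp he)
    have hz1 : z ≠ 1 := by
      rintro rfl
      rw [orderOf_one] at hz2
      omega
    have hRC : ((T : Subgroup G) ⊓ normalizer (E : Set G) : Subgroup G) ≤ centralizer ({t} : Set G) := by
      intro r hr
      rw [mem_cent1]
      exact h.c.cen z hz hz1 t ht r (hzc r hr)
    have hSR : S ≤ (T : Subgroup G) ⊓ normalizer (E : Set G) := by
      refine le_inf hST ?_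
      intro s hs
      rw [mem_normalizer_iff]
      intro e
      have hse := hcE s (hS.le hs)
      constructor
      · intro he
        rw [hse e he, mul_inv_cancel_right]
        exact he
      · intro he
        have h2 := hse _ he
        have e1 : s * e * s⁻¹ = e := by
          have h3 : e = s⁻¹ * (s * e * s⁻¹) * s := by group
          rw [mul_assoc, ← h2] at h3
          have h4 : s⁻¹ * (s * (s * e * s⁻¹)) = s * e * s⁻¹ := by group
          rw [h4] at h3
          exact h3.symm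
        rwa [e1] at he
    exact hS.max _ hR2 hSR hRC (mem_inf.mpr ⟨hx2, hxN⟩)
  refine ⟨T, ?_, ?_⟩
  · rw [← hTS]; exact hES
  · intro x hx g hg
    rw [← hTS] at hg
    exact hcl x hx g hg

end Cfsg.Agent.H298.UThree
end

-- part: H298/UThree/FourA
section
/-!
# S3151: `K` is normal if `|E| ≥ 4` and `Z(K) = 1`
-/

set_option autoImplicit false
set_option linter.unusedSectionVars false

namespace Cfsg.Agent.H298.UThree

open Subgroup Cfsg.Agent.OddHalf.D4.Basic Cfsg.Agent.OddHalf.D4.U3.ParDefs Cfsg.Agent.StdU3.Semi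
  Cfsg.Agent.StdU3.Field Cfsg.Agent.StdU3 Cfsg.Agent.SignalizersComponents
open Cfsg.Agent.OddHalf.D4.CommConj (cj mem_cj cj_mul card_cj cj_eq_of_mem_normalizer mem_normalizer_of_cj_eq
  mem_cj_mul)
open Cfsg.Agent.StdL2.Setup (mem_centralizer_subgroupOf)

universe u v

variable {G : Type u} [Group G] [Finite G] {E K : Subgroup G} {F : Type v} [Field F] [Fintype F] {n : ℕ}

/-- elements of `C(K)` of odd order centralising an involution of `E` and normalising `K` -/
theorem Hyp.K_even (h : Hyp E K F n) : ∃ x ∈ K, orderOf x = 2 := by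
  obtain ⟨P, hPK, hP2, x, hx, y, hy, hxy⟩ := h.na
  have hne : P ≠ ⊥ := by
    rintro rfl
    rw [mem_bot] at hx hy
    apply hxy
    rw [hx, hy]
  obtain ⟨u, hu, hu2⟩ := exists_invol_of_two hP2 hne
  exact ⟨u, hPK hu, hu2⟩

/-- an odd-order normal subgroup centralising `t ∈ E#` lies in `Z(K)` -/
theorem Hyp.le_of_odd (h : Hyp E K F n) {N : Subgroup G} (hodd : Odd (Nat.card ↥N)) {t : G} (ht : t ∈ E)
    (ht1 : t ≠ 1) (hNt : ∀ x ∈ N, x * t = t * x) (hKN : K ≤ normalizer (N : Set G)) :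
    N ≤ K ∧ N ≤ centralizer (K : Set G) := by
  have hNK : N ≤ normalizer (K : Set G) := by
    intro x hx
    rw [mem_normalizer_iff]
    intro k
    constructor
    · exact fun hk => h.c.nor t ht ht1 x (hNt x hx) k hk
    · intro hk
      have h2 := h.c.nor t ht ht1 x⁻¹ (hNt _ (inv_mem hx)) _ hk
      have e1 : x⁻¹ * (x * k * x⁻¹) * x⁻¹⁻¹ = k := by group
      rwa [e1] at h2
  have hNC : N ≤ centralizer (K : Set G) := by
    rcases StandardTools.le_or_le_centralizer h.c.qs hNK hKN with h1 | h1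
    · exfalso
      obtain ⟨x, hx, hx2⟩ := h.K_even
      have h2 := even_of_mem hx2 (h1 hx)
      exact (Nat.not_even_iff_odd.mpr hodd) h2
    · exact h1
  refine ⟨?_, hNC⟩
  intro x hx
  obtain ⟨f, hf, w, hw, hwc, hxe⟩ := h.c.cK t ht ht1 x (hNt x hx) (hNC hx)
  -- `f` has odd order
  have h3 : x ^ Nat.card ↥N = 1 := by
    have : (⟨x, hx⟩ : ↥N) ^ Nat.card ↥N = 1 := pow_card_eq_one'
    exact congrArg Subtype.val this
  have hcomm : Commute f w := h.c.Kc f hf w hw
  have h4 : f ^ (Nat.card ↥N * Nat.card ↥(center ↥K)) = 1 := by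
    have h5 : f = x * w⁻¹ := by rw [hxe]; group
    have h6 : Commute x w := by
      rw [hxe]
      exact hcomm.mul_left (Commute.refl w)
    rw [h5, h6.inv_right.mul_pow, pow_mul, h3, one_pow, one_mul, inv_pow, mul_comm, pow_mul,
      h.c.w_pow hw hwc, one_pow, inv_one]
  have h5 : f = 1 := (Two.of_mem h.c.E_two hf).eq_one_of_odd (hodd.mul h.c.odd) h4
  rw [hxe, h5, one_mul]
  exact hw

/-- the parametrisation of a group of type `PSU₃` -/
theorem exists_par_of_psu {L : Subgroup G} {F' : Type} [Field F'] [Fintype F'] {q : ℕ}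
    (hq : Fintype.card F' = q ^ 2) (he : Even q) (h4 : 4 ≤ q) (hL : Nonempty (↥L ≃* Cfsg.PSU 3 F' q)) :
    ∃ (m : ℕ) (_ : CharP F' 2) (σ : F' →+* F') (_ : Fact (∀ x, σ (σ x) = x)), 2 ≤ m ∧ q = 2 ^ m ∧
      Nonempty (Par L σ m) := by
  have hc : CharP F' 2 := by
    apply Cfsg.Agent.StdSz.OutLie.charP_two_of_even
    rw [hq, pow_two]
    exact he.mul_left q
  obtain ⟨k, -, hk⟩ := FiniteField.card F' 2
  obtain ⟨m, hm⟩ : ∃ m, q = 2 ^ m := by
    have h1 : q ∣ 2 ^ (k : ℕ) := by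
      rw [← hk, hq, pow_two]
      exact Dvd.intro _ rfl
    obtain ⟨m, -, hm⟩ := (Nat.dvd_prime_pow Nat.prime_two).mp h1
    exact ⟨m, hm⟩
  have hm2 : 2 ≤ m := by
    by_contra hcon
    have : q ≤ 2 ^ 1 := by
      rw [hm]
      exact Nat.pow_le_pow_right (by norm_num) (by omega)
    omega
  have hqd : Qd F' m := ⟨hm2, by rw [hq, hm]⟩
  let σ : F' →+* F' := iterateFrobenius F' 2 m
  have hσ : ∀ x, σ x = bar m x := fun x => iterateFrobenius_def 2 m x
  have hfact : Fact (∀ x, σ (σ x) = x) := ⟨fun x => by rw [hσ, hσ, bar_bar hqd]⟩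
  have hS : Sg σ m := ⟨hqd, hσ⟩
  obtain ⟨R0⟩ := Cfsg.Agent.StdU3.URelModel.nonempty_urel (σ := σ) (n := m) (by omega) hσ
    (by rw [Nat.card_eq_fintype_card, hqd.hK])
  obtain ⟨e⟩ := hL
  rw [hm] at e
  exact ⟨m, hc, σ, hfact, hm2, hm, ⟨⟨hS, R0.map e.symm⟩⟩⟩

theorem mem_sup_zpowers {L : Subgroup G} (hLn : L.Normal) {e : G} (he : e * e = 1) {x : G}
    (hx : x ∈ L ⊔ zpowers e) : x ∈ L ∨ x * e ∈ L := by
  obtain ⟨l, hl, y, hy, rfl⟩ := Subgroup.mem_sup_of_normal_left.mp hx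
  obtain ⟨k, rfl⟩ := Subgroup.mem_zpowers_iff.mp hy
  have h4 : e ^ (2 : ℤ) = 1 := by
    rw [show (2 : ℤ) = ((2 : ℕ) : ℤ) by norm_num, zpow_natCast, pow_two, he]
  rcases Int.even_or_odd' k with ⟨c, h | h⟩
  · left
    rw [h, zpow_mul, h4, one_zpow, mul_one]
    exact hl
  · right
    rw [h, zpow_add, zpow_mul, h4, one_zpow, one_mul, zpow_one, mul_assoc, he, mul_one]
    exact hl

/-- the Sylow 2-subgroup of `L` normalised by `E` -/
theorem Hyp.exists_T (h : Hyp E K F n) {L : Subgroup G} (hLn : L.Normal) :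
    ∃ P S : Subgroup G, IsSyl P K ∧ IsSyl S ⊤ ∧ E ≤ S ∧ P ≤ S ∧ IsSyl (S ⊓ L) L := by
  obtain ⟨P, hP, -⟩ := exists_isSyl (M := K) (Q := ⊥) (IsPGroup.of_bot) bot_le
  have h1 : IsPGroup 2 ↥(E ⊔ P : Subgroup G) :=
    sup_two h.c.E_two hP.two (fun e he p hp => h.c.Kc e he p (hP.le hp))
  obtain ⟨S, hS, hES⟩ := exists_isSyl (M := ⊤) h1 le_top
  refine ⟨P, S, hP, hS, le_sup_left.trans hES, le_sup_right.trans hES, ?_⟩
  apply hS.inf le_top
  rw [normalizer_eq_top_iff.mpr hLn]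
  exact le_top

/-- elements of `S` normalise `S ∩ L` -/
theorem cj_inf_of_mem {S L : Subgroup G} (hLn : L.Normal) {x : G} (hx : x ∈ S) : cj x (S ⊓ L) = S ⊓ L := by
  apply cj_eq_of_mem_normalizer
  rw [mem_normalizer_iff]
  intro y
  constructor
  · intro hy
    obtain ⟨h1, h2⟩ := mem_inf.mp hy
    exact mem_inf.mpr ⟨mul_mem (mul_mem hx h1) (inv_mem hx), hLn.conj_mem y h2 x⟩
  · intro hy
    obtain ⟨h1, h2⟩ := mem_inf.mp hy
    have e : y = x⁻¹ * (x * y * x⁻¹) * x := by group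
    rw [e]
    refine mem_inf.mpr ⟨mul_mem (mul_mem (inv_mem hx) h1) hx, ?_⟩
    have := hLn.conj_mem _ h2 x⁻¹
    rwa [inv_inv] at this

/-- **the case of a simple layer, `|E| ≥ 4`** -/
theorem Hyp.false_of_layer (h : Hyp E K F n) (h4 : ∃ e ∈ E, ∃ f ∈ E, e ≠ 1 ∧ f ≠ 1 ∧ e ≠ f)
    (hZ : ∀ w ∈ K, w ∈ centralizer (K : Set G) → w = 1) {L : Subgroup G} (hLn : L.Normal)
    (hLs : IsSimpleGroup ↥L) (hna : ¬ IsMulCommutative ↥L) (hC : centralizer (L : Set G) = ⊥) (hKL : K ≤ L) :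
    False := by
  by_cases hA : ∃ e ∈ E, e ∈ L ∧ e ≠ 1
  · obtain ⟨e, he, heL, he1⟩ := hA
    have h' := h.sub hKL ⟨e, he, heL, he1⟩
    by_cases hB : ∃ f ∈ E, f ∈ L ∧ f ≠ 1 ∧ f ≠ e
    · obtain ⟨f, hf, hfL, hf1, hfe⟩ := hB
      refine h'.false_of_simple ?_ ⟨⟨e, heL⟩, mem_subgroupOf.mpr he, ⟨f, hfL⟩, mem_subgroupOf.mpr hf, ?_, ?_, ?_⟩
      · intro w hw hwc
        exact Subtype.ext (hZ _ (mem_subgroupOf.mp hw) ((mem_centralizer_subgroupOf hKL).mp hwc))
      · exact fun h1 => he1 (congrArg Subtype.val h1)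
      · exact fun h1 => hf1 (congrArg Subtype.val h1)
      · exact fun h1 => hfe (congrArg Subtype.val h1).symm
    · push Not at hB
      have h1 : zpowers e ≤ L := by rwa [zpowers_le]
      refine (h.local_analysis hLn hLs hna hC hKL he he1 ?_).1 heL
      intro f hf hfL
      rw [sup_eq_left.mpr h1] at hfL
      by_cases hf1 : f = 1
      · exact Or.inl hf1
      · exact Or.inr (hB f hf hfL hf1)
  · push Not at hA
    obtain ⟨e, he, f, hf, he1, hf1, hef⟩ := h4
    have hee := h.c.sq e he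
    have hff := h.c.sq f hf
    have hcomm := h.c.E_comm he hf
    have hef1 : e * f ≠ 1 := by
      intro h2
      apply hef
      rw [← hff] at h2
      exact mul_right_cancel h2
    obtain ⟨-, hk⟩ := h.local_analysis hLn hLs hna hC hKL he he1 (by
      intro g hg hgL
      rcases mem_sup_zpowers hLn hee hgL with h1 | h1
      · exact Or.inl (hA g hg h1)
      · right
        have h2 := hA _ (mul_mem hg he) h1
        rw [← hee] at h2
        exact mul_right_cancel h2)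
    rcases hk with ⟨F', _, _, q, hq, heven, hq4, hpsu⟩ | hk
    · obtain ⟨m, _, σ, _, -, -, ⟨p⟩⟩ := exists_par_of_psu hq heven hq4 hpsu
      have a : Act.Amb L := ⟨fun a i hi => hLn.conj_mem i hi a, fun x hx => by
        have h1 : x ∈ centralizer (L : Set G) := by
          rw [mem_centralizer_iff]
          exact fun y hy => (hx y hy).symm
        rwa [hC, mem_bot] at h1⟩
      rcases a.inner_three' p hee hff hcomm with h1 | h1 | h1
      · exact he1 (hA e he h1)
      · exact hf1 (hA f hf h1)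
      · exact hef1 (hA _ (mul_mem he hf) h1)
    · obtain ⟨P, S, hP, hS, hES, hPS, hT⟩ := h.exists_T hLn
      obtain ⟨A, B, hAB⟩ := exists_ab hk hT
      have key : ∀ g ∈ E, g ≠ 1 → cj g A = B := fun g hg hg1 =>
        h.swap hA hP inf_le_right (le_inf hPS (hP.le.trans hKL)) hAB hg hg1 (cj_inf_of_mem hLn (hES hg))
      have k1 := key e he he1
      have k2 := key f hf hf1
      have k3 := key (e * f) (mul_mem he hf) hef1
      rw [cj_mul, k2] at k3
      have k4 : cj e (cj e A) = A := by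
        rw [← cj_mul, hee]
        exact Cfsg.Agent.OddHalf.D4.RkEnd.Tools.cj_one A
      rw [k1, k3] at k4
      obtain ⟨x, hx, hxB⟩ := hAB.neA
      rw [← k4] at hx
      exact hxB hx

/-- **Theorem A**: `K` is normal in `G` if `|E| ≥ 4` and `Z(K) = 1`. -/
theorem Hyp.normal_of_four (h : Hyp E K F n) (h4 : ∃ e ∈ E, ∃ f ∈ E, e ≠ 1 ∧ f ≠ 1 ∧ e ≠ f)
    (hZ : ∀ w ∈ K, w ∈ centralizer (K : Set G) → w = 1) : K.Normal := by
  obtain ⟨t, ht, ht1⟩ := h.c.ne
  have hord : orderOf t = 2 := orderOf_eq_prime (by rw [pow_two]; exact h.c.sq t ht) ht1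
  have htC := h.c.E_le ht
  have hO : Cfsg.oddCore G = ⊥ := by
    have hn : (Cfsg.oddCore G).Normal := Cfsg.Agent.Lib.Cores.pPrimeCore_normal 2
    have hodd : Odd (Nat.card ↥(Cfsg.oddCore G)) := by
      have := Cfsg.Agent.Lib.Cores.pPrimeCore_coprime (G := G) 2
      rwa [Nat.coprime_two_right] at this
    have h1 := h.c.odd_comm h4 hodd (fun e _ x hx => hn.conj_mem x hx e)
    obtain ⟨h2, h3⟩ := h.le_of_odd hodd ht ht1 (fun x hx => (mem_centralizer_iff.mp (h1 hx) t ht).symm) (by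
      rw [normalizer_eq_top_iff.mpr hn]; exact le_top)
    rw [eq_bot_iff]
    intro x hx
    rw [mem_bot]
    exact hZ x (h2 hx) (h3 hx)
  by_contra hnn
  have h2 : Cfsg.pCore 2 G = ⊥ := by
    by_contra h0
    exact hnn (StandardTrichotomy.normal_of_pCore_ne_bot h.isStandard hord htC h0)
  have hC := StandardTrichotomy.centralizer_layer_eq_bot hO h2
  rcases Cfsg.Agent.S1347.result K h.isStandard hO t hord htC with h1 | h1 | h1
  · exact hnn h1
  · obtain ⟨X, -, -, -, -, -, -, h8⟩ := h1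
    have hE : ∀ e ∈ E, e ≠ 1 → e = t := by
      intro e he he1
      have h9 : e ∈ zpowers t := by rw [← h8]; exact h.c.E_le he
      rcases mem_sup_zpowers (L := ⊥) inferInstance (h.c.sq t ht) (mem_sup_right h9) with h10 | h10
      · exact absurd (mem_bot.mp h10) he1
      · rw [mem_bot, ← h.c.sq t ht] at h10
        exact mul_right_cancel h10
    obtain ⟨e, he, f, hf, he1, hf1, hef⟩ := h4
    exact hef ((hE e he he1).trans (hE f hf hf1).symm)
  · obtain ⟨hKL, hLs, hna⟩ := h1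
    exact h.false_of_layer h4 hZ (Components.layer_normal G) hLs hna hC hKL

end Cfsg.Agent.H298.UThree
end

-- part: H298/UThree/Quot
section
/-!
# S3151: the configuration passes to the quotient by a normal subgroup of odd order
-/

set_option autoImplicit false
set_option linter.unusedSectionVars false

namespace Cfsg.Agent.H298.UThree

open Subgroup Cfsg.Agent.OddHalf.D4.Basic
open Cfsg.Agent.OddHalf.D4.CommConj (cj mem_cj cj_mul card_cj cj_eq_of_mem_normalizer mem_normalizer_of_cj_eq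
  mem_cj_mul)

universe u v

variable {G : Type u} [Group G]

/-- involutions congruent modulo a normal subgroup of odd order are conjugate under it -/
theorem exists_conj_of_odd [Finite G] {N : Subgroup G} (hodd : Odd (Nat.card ↥N)) {e f : G} (he : e * e = 1)
    (hf : f * f = 1) (hef : f * e ∈ N) : ∃ m ∈ N, m * e * m⁻¹ = f := by
  obtain ⟨s, hs⟩ := hodd
  have hei : e⁻¹ = e := inv_eq_of_mul_eq_one_left he
  have hfi : f⁻¹ = f := inv_eq_of_mul_eq_one_left hf
  have hr : (f * e) ^ (2 * s + 1) = 1 := by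
    rw [← hs]
    have : (⟨f * e, hef⟩ : ↥N) ^ Nat.card ↥N = 1 := pow_card_eq_one'
    exact congrArg Subtype.val this
  have hsc : SemiconjBy e (f * e)⁻¹ (f * e) := by
    show e * (f * e)⁻¹ = f * e * e
    rw [mul_inv_rev, hei, hfi, ← mul_assoc, he, one_mul, mul_assoc, he, mul_one]
  have h1 : e * ((f * e) ^ (s + 1))⁻¹ = (f * e) ^ (s + 1) * e := by
    rw [← inv_pow]
    exact hsc.pow_right (s + 1)
  refine ⟨(f * e) ^ (s + 1), pow_mem hef _, ?_⟩
  rw [mul_assoc, h1, ← mul_assoc, ← pow_add, show s + 1 + (s + 1) = (2 * s + 1) + 1 by ring, pow_succ, hr, one_mul,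
    mul_assoc, he, mul_one]

/-- centralisers of involutions in the quotient by an odd normal subgroup -/
theorem exists_lift_comm [Finite G] {N : Subgroup G} [hN : N.Normal] (hodd : Odd (Nat.card ↥N)) {e x : G}
    (he : e * e = 1)
    (hx : (QuotientGroup.mk' N x) * (QuotientGroup.mk' N e) = (QuotientGroup.mk' N e) * (QuotientGroup.mk' N x)) :
    ∃ y : G, QuotientGroup.mk' N y = QuotientGroup.mk' N x ∧ y * e = e * y := by
  have h1 : x * e * x⁻¹ * e ∈ N := by
    have h2 : QuotientGroup.mk' N (x * e * x⁻¹ * e) = 1 := by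
      rw [map_mul, map_mul, map_mul, hx, map_inv, mul_inv_cancel_right, ← map_mul, he, map_one]
    rw [← QuotientGroup.ker_mk' N]
    exact h2
  obtain ⟨m, hm, hme⟩ := exists_conj_of_odd hodd he (f := x * e * x⁻¹) (by
    calc x * e * x⁻¹ * (x * e * x⁻¹) = x * (e * e) * x⁻¹ := by group
      _ = 1 := by rw [he]; group) h1
  refine ⟨m⁻¹ * x, ?_, ?_⟩
  · rw [map_mul]
    have h3 : QuotientGroup.mk' N m⁻¹ = 1 := by
      have := inv_mem hm
      rw [← QuotientGroup.ker_mk' N] at this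
      exact this
    rw [h3, one_mul]
  · calc m⁻¹ * x * e = m⁻¹ * (x * e * x⁻¹) * x := by group
      _ = m⁻¹ * (m * e * m⁻¹) * x := by rw [hme]
      _ = e * (m⁻¹ * x) := by group

/-- elements centralising `K` modulo a normal subgroup of odd order -/
theorem comm_of_mod [Finite G] {K N : Subgroup G} (hq : Cfsg.IsQuasisimple ↥K) (hKe : ∃ x ∈ K, orderOf x = 2)
    (hN : N.Normal) (hodd : Odd (Nat.card ↥N)) {y : G} (hyK : ∀ k ∈ K, y * k * y⁻¹ ∈ K)
    (hy : ∀ k ∈ K, y * k * y⁻¹ * k⁻¹ ∈ N) : y ∈ centralizer (K : Set G) := by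
  have hp : commutator ↥K = ⊤ := hq.1.commutator_eq_top
  have h1 : N ⊓ K ≤ centralizer (K : Set G) := by
    have h2 : (N.subgroupOf K).Normal := inferInstance
    rcases Cfsg.Agent.SignalizersComponents.Components.quasisimple_normal hq _ h2 with h3 | h3
    · exfalso
      obtain ⟨x, hx, hx2⟩ := hKe
      exact (Nat.not_even_iff_odd.mpr hodd) (even_of_mem hx2 ((subgroupOf_eq_top.mp h3) hx))
    · intro x hx
      obtain ⟨hxN, hxK⟩ := mem_inf.mp hx
      have h4 : (⟨x, hxK⟩ : ↥K) ∈ center ↥K := h3 (mem_subgroupOf.mpr hxN)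
      rw [mem_centralizer_iff]
      intro k hk
      exact congrArg Subtype.val (mem_center_iff.mp h4 ⟨k, hk⟩)
  apply comm_of_central hp
  intro k hk
  have h2 : y * k * y⁻¹ * k⁻¹ ∈ K := mul_mem (hyK k hk) (inv_mem hk)
  exact ⟨h2, h1 (mem_inf.mpr ⟨hy k hk, h2⟩)⟩

variable {E K : Subgroup G} {F : Type v} [Field F] [Fintype F] {n : ℕ}

/-- **the configuration in `G / N`, `N` normal of odd order** -/
theorem Hyp.quot [Finite G] (h : Hyp E K F n) {N : Subgroup G} [hN : N.Normal] (hodd : Odd (Nat.card ↥N)) :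
    Hyp (E.map (QuotientGroup.mk' N)) (K.map (QuotientGroup.mk' N)) F n := by
  have hker : ∀ x, QuotientGroup.mk' N x = 1 ↔ x ∈ N := fun x => by
    rw [← MonoidHom.mem_ker, QuotientGroup.ker_mk']
  have hne : ∀ e ∈ E, e ≠ 1 → QuotientGroup.mk' N e ≠ 1 := by
    intro e he he1 h1
    rw [hker] at h1
    apply he1
    have h3 : e ^ Nat.card ↥N = 1 := by
      have : (⟨e, h1⟩ : ↥N) ^ Nat.card ↥N = 1 := pow_card_eq_one'
      exact congrArg Subtype.val this
    exact (Two.of_mem h.c.E_two he).eq_one_of_odd hodd h3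
  have hne' : ∀ e ∈ E, QuotientGroup.mk' N e ≠ 1 → e ≠ 1 := by
    rintro e - h1 rfl
    exact h1 (map_one _)
  let f : ↥K →* ↥(K.map (QuotientGroup.mk' N)) := (QuotientGroup.mk' N).subgroupMap K
  have hf : Function.Surjective f := (QuotientGroup.mk' N).subgroupMap_surjective K
  have hnt : Nontrivial ↥(K.map (QuotientGroup.mk' N)) := by
    obtain ⟨x, hx, hx2⟩ := h.K_even
    refine ⟨⟨⟨_, ⟨x, hx, rfl⟩⟩, 1, ?_⟩⟩
    intro h1
    have h2 : QuotientGroup.mk' N x = 1 := congrArg Subtype.val h1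
    rw [hker] at h2
    exact (Nat.not_even_iff_odd.mpr hodd) (even_of_mem hx2 h2)
  have hqs := Cfsg.Agent.CpQuot.Quo.quasisimple h.c.qs f hf
  refine ⟨⟨?_, ?_, ?_, ?_, ?_, ?_, hqs, ?_⟩, h.hn, h.hF, ?_⟩
  · obtain ⟨e, he, he1⟩ := h.c.ne
    exact ⟨_, ⟨e, he, rfl⟩, hne e he he1⟩
  · rintro _ ⟨e, he, rfl⟩
    rw [← map_mul, h.c.sq e he, map_one]
  · rintro _ ⟨e, he, rfl⟩ he1 _ ⟨g, hg, rfl⟩ x hx
    obtain ⟨x, rfl⟩ := QuotientGroup.mk'_surjective N x
    obtain ⟨y, hy, hye⟩ := exists_lift_comm hodd (h.c.sq e he) hx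
    rw [← hy, ← map_mul, ← map_mul, h.c.cen e he (hne' e he he1) g hg y hye]
  · rintro _ ⟨e, he, rfl⟩ _ ⟨k, hk, rfl⟩
    rw [← map_mul, ← map_mul, h.c.Kc e he k hk]
  · rintro _ ⟨e, he, rfl⟩ he1 x hx _ ⟨k, hk, rfl⟩
    obtain ⟨x, rfl⟩ := QuotientGroup.mk'_surjective N x
    obtain ⟨y, hy, hye⟩ := exists_lift_comm hodd (h.c.sq e he) hx
    rw [← hy, ← map_mul, ← map_inv, ← map_mul]
    exact ⟨_, h.c.nor e he (hne' e he he1) y hye k hk, rfl⟩
  · rintro _ ⟨e, he, rfl⟩ he1 x hx hxK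
    obtain ⟨x, rfl⟩ := QuotientGroup.mk'_surjective N x
    obtain ⟨y, hy, hye⟩ := exists_lift_comm hodd (h.c.sq e he) hx
    rw [← hy] at hxK ⊢
    have h1 := h.c.nor e he (hne' e he he1) y hye
    have h2 : y ∈ centralizer (K : Set G) := by
      apply comm_of_mod h.c.qs h.K_even hN hodd h1
      intro k hk
      rw [← hker, map_mul, map_mul, map_mul, map_inv, map_inv, ← mem_centralizer_iff.mp hxK _ ⟨k, hk, rfl⟩]
      group
    obtain ⟨g, hg, w, hw, hwc, hyw⟩ := h.c.cK e he (hne' e he he1) y hye h2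
    refine ⟨_, ⟨g, hg, rfl⟩, _, ⟨w, hw, rfl⟩, ?_, by rw [hyw, map_mul]⟩
    rw [mem_centralizer_iff]
    rintro _ ⟨k, hk, rfl⟩
    rw [← map_mul, ← map_mul, mem_centralizer_iff.mp hwc k hk]
  · have h1 := Cfsg.Agent.CpQuot.Quo.card_ker_mul h.c.qs f hf
    exact Odd.of_dvd_nat h.c.odd (Dvd.intro_left _ h1)
  · obtain ⟨e⟩ := Cfsg.Agent.CpQuot.Quo.nonempty_equiv h.c.qs f hf
    obtain ⟨e'⟩ := h.iso
    exact ⟨e.symm.trans e'⟩

end Cfsg.Agent.H298.UThree
end

-- part: H298/UThree/FourB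
section
/-!
# S3151: `E` is strongly closed if `|E| ≥ 4`
-/

set_option autoImplicit false
set_option linter.unusedSectionVars false

namespace Cfsg.Agent.H298.UThree

open Subgroup Cfsg.Agent.OddHalf.D4.Basic
open Cfsg.Agent.OddHalf.D4.CommConj (cj mem_cj cj_mul card_cj cj_eq_of_mem_normalizer mem_normalizer_of_cj_eq
  mem_cj_mul)
open Cfsg.Agent.StdL2.Setup (mem_centralizer_subgroupOf)

universe u v

variable {G : Type u} [Group G]

/-- `Z(K)` -/
def ZK (K : Subgroup G) : Subgroup G := K ⊓ centralizer (K : Set G)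

theorem mem_ZK {K : Subgroup G} {x : G} : x ∈ ZK K ↔ x ∈ K ∧ x ∈ centralizer (K : Set G) := mem_inf

theorem mem_normalizer_of {X : Subgroup G} {g : G} (h : ∀ x ∈ X, g * x * g⁻¹ ∈ X) (h' : ∀ x ∈ X, g⁻¹ * x * g ∈ X) :
    g ∈ normalizer (X : Set G) := by
  rw [mem_normalizer_iff]
  intro x
  constructor
  · exact h x
  · intro hx
    have h1 := h' _ hx
    have e : g⁻¹ * (g * x * g⁻¹) * g = x := by group
    rwa [e] at h1

variable [Finite G] {E K : Subgroup G} {F : Type v} [Field F] [Fintype F] {n : ℕ}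

theorem Hyp.mem_normalizer (h : Hyp E K F n) {t x : G} (ht : t ∈ E) (ht1 : t ≠ 1) (hx : x * t = t * x) :
    x ∈ normalizer (K : Set G) := by
  apply mem_normalizer_of
  · exact h.c.nor t ht ht1 x hx
  · intro k hk
    have h1 := h.c.nor t ht ht1 x⁻¹ (by
      calc x⁻¹ * t = x⁻¹ * (t * x) * x⁻¹ := by group
        _ = x⁻¹ * (x * t) * x⁻¹ := by rw [hx]
        _ = t * x⁻¹ := by group) k hk
    rwa [inv_inv] at h1

theorem Hyp.odd_ZK (h : Hyp E K F n) : Odd (Nat.card ↥(ZK K)) := by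
  have h1 : Nat.card ↥(ZK K) ≤ Nat.card ↥(center ↥K) := by
    apply Nat.card_le_card_of_injective (fun x : ↥(ZK K) => (⟨⟨x, (mem_ZK.mp x.2).1⟩, by
      rw [mem_center_iff]
      intro y
      exact Subtype.ext (mem_centralizer_iff.mp (mem_ZK.mp x.2).2 y y.2)⟩ : ↥(center ↥K)))
    intro x y hxy
    have h2 := congrArg (fun z : ↥(center ↥K) => ((z : ↥K) : G)) hxy
    exact Subtype.ext h2
  have h2 : ZK K = (center ↥K).map K.subtype := by
    ext x
    constructor
    · intro hx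
      obtain ⟨h3, h4⟩ := mem_ZK.mp hx
      refine ⟨⟨x, h3⟩, ?_, rfl⟩
      rw [SetLike.mem_coe, mem_center_iff]
      intro y
      exact Subtype.ext (mem_centralizer_iff.mp h4 y y.2)
    · rintro ⟨y, hy, rfl⟩
      refine mem_ZK.mpr ⟨y.2, ?_⟩
      rw [mem_centralizer_iff]
      intro z hz
      exact congrArg Subtype.val (mem_center_iff.mp hy ⟨z, hz⟩)
  rw [h2, card_map_of_injective K.subtype_injective]
  exact h.c.odd

/-- `C(Z(K))` normalises `K` -/
theorem Hyp.conj_mem_of_comm (h : Hyp E K F n) (h4 : ∃ e ∈ E, ∃ f ∈ E, e ≠ 1 ∧ f ≠ 1 ∧ e ≠ f) {c : G}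
    (hc : c ∈ centralizer (ZK K : Set G)) {k : G} (hk : k ∈ K) : c * k * c⁻¹ ∈ K := by
  have hKC : K ≤ centralizer (ZK K : Set G) := by
    intro x hx
    rw [mem_centralizer_iff]
    intro w hw
    exact (mem_centralizer_iff.mp (mem_ZK.mp hw).2 x hx).symm
  have hZC : ZK K ≤ centralizer (ZK K : Set G) := fun x hx => hKC (mem_ZK.mp hx).1
  have hEC : E ≤ centralizer (ZK K : Set G) := by
    intro x hx
    rw [mem_centralizer_iff]
    intro w hw
    exact (h.c.Kc x hx w (mem_ZK.mp hw).1).symm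
  obtain ⟨t, ht, ht1⟩ := h.c.ne
  have h1 := h.sub hKC ⟨t, ht, hEC ht, ht1⟩
  have hN : ((ZK K).subgroupOf (centralizer (ZK K : Set G))).Normal := by
    refine ⟨fun x hx g => ?_⟩
    have h2 := mem_centralizer_iff.mp g.2 x (mem_subgroupOf.mp hx)
    have h3 : g * x * g⁻¹ = x := Subtype.ext (by
      show (g : G) * x * (g : G)⁻¹ = x
      rw [← h2]; group)
    rw [h3]; exact hx
  have hodd : Odd (Nat.card ↥((ZK K).subgroupOf (centralizer (ZK K : Set G)))) := by
    rw [Nat.card_congr (subgroupOfEquivOfLe hZC).toEquiv]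
    exact h.odd_ZK
  have h2 := h1.quot hodd
  have hker : ∀ x, QuotientGroup.mk' ((ZK K).subgroupOf (centralizer (ZK K : Set G))) x = 1 ↔ (x : G) ∈ ZK K :=
    fun x => by rw [← MonoidHom.mem_ker, QuotientGroup.ker_mk', mem_subgroupOf]
  have h3 := h2.normal_of_four (by
    obtain ⟨e, he, f, hf, he1, hf1, hef⟩ := h4
    refine ⟨_, ⟨⟨e, hEC he⟩, mem_subgroupOf.mpr he, rfl⟩, _, ⟨⟨f, hEC hf⟩, mem_subgroupOf.mpr hf, rfl⟩, ?_, ?_, ?_⟩
    · intro h5
      rw [hker] at h5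
      exact he1 (h.c.inf_eq he (mem_ZK.mp h5).1)
    · intro h5
      rw [hker] at h5
      exact hf1 (h.c.inf_eq hf (mem_ZK.mp h5).1)
    · intro h5
      have h6 : QuotientGroup.mk' ((ZK K).subgroupOf (centralizer (ZK K : Set G)))
          ((⟨e, hEC he⟩ : ↥(centralizer (ZK K : Set G)))⁻¹ * ⟨f, hEC hf⟩) = 1 := by
        rw [map_mul, map_inv, h5]; group
      rw [hker] at h6
      have h7 : e⁻¹ * f ∈ ZK K := h6
      have h8 := h.c.inf_eq (mul_mem (inv_mem he) hf) (mem_ZK.mp h7).1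
      exact hef (inv_mul_eq_one.mp h8)) (by
    rintro _ ⟨w, hw, rfl⟩ hwc
    have hw' : (w : G) ∈ K := mem_subgroupOf.mp hw
    rw [hker]
    refine mem_ZK.mpr ⟨hw', ?_⟩
    apply comm_of_central h.c.qs.1.commutator_eq_top
    intro k hk
    have h5 := mem_centralizer_iff.mp hwc _ ⟨⟨k, hKC hk⟩, mem_subgroupOf.mpr hk, rfl⟩
    have h6 : QuotientGroup.mk' ((ZK K).subgroupOf (centralizer (ZK K : Set G)))
        (w * ⟨k, hKC hk⟩ * w⁻¹ * (⟨k, hKC hk⟩)⁻¹) = 1 := by
      rw [map_mul, map_mul, map_mul, map_inv, map_inv, ← h5]; group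
    rw [hker] at h6
    exact mem_ZK.mp h6)
  have h5 := h3.conj_mem _ ⟨⟨k, hKC hk⟩, mem_subgroupOf.mpr hk, rfl⟩
    (QuotientGroup.mk' ((ZK K).subgroupOf (centralizer (ZK K : Set G))) ⟨c, hc⟩)
  rw [← map_mul, ← map_inv, ← map_mul] at h5
  obtain ⟨k', hk', h6⟩ := h5
  have h7 : QuotientGroup.mk' ((ZK K).subgroupOf (centralizer (ZK K : Set G)))
      ((⟨c, hc⟩ * ⟨k, hKC hk⟩ * ⟨c, hc⟩⁻¹) * k'⁻¹) = 1 := by
    rw [map_mul, ← h6, map_inv, mul_inv_cancel]
  rw [hker] at h7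
  have h8 : c * k * c⁻¹ * (k' : G)⁻¹ ∈ ZK K := h7
  have h9 := mul_mem (mem_ZK.mp h8).1 (mem_subgroupOf.mp hk')
  rwa [inv_mul_cancel_right] at h9

/-- `N(Z(K)) ≤ N(K)` -/
theorem Hyp.normalizer_ZK_le (h : Hyp E K F n) (h4 : ∃ e ∈ E, ∃ f ∈ E, e ≠ 1 ∧ f ≠ 1 ∧ e ≠ f) :
    normalizer (ZK K : Set G) ≤ normalizer (K : Set G) := by
  intro g hg
  by_contra hcon
  have hne : cj g K ≠ K := fun h1 => hcon (mem_normalizer_of_cj_eq h1)
  have hKC : K ≤ centralizer (ZK K : Set G) := by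
    intro x hx
    rw [mem_centralizer_iff]
    intro w hw
    exact (mem_centralizer_iff.mp (mem_ZK.mp hw).2 x hx).symm
  have hnor : ∀ c ∈ centralizer (ZK K : Set G), c ∈ normalizer (K : Set G) := by
    intro c hc
    apply mem_normalizer_of
    · exact fun x hx => h.conj_mem_of_comm h4 hc hx
    · intro x hx
      have := h.conj_mem_of_comm h4 (inv_mem hc) hx
      rwa [inv_inv] at this
  have hg1 : ∀ c ∈ centralizer (ZK K : Set G), g * c * g⁻¹ ∈ centralizer (ZK K : Set G) := by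
    intro c hc
    rw [mem_centralizer_iff]
    intro w hw
    have h1 : g⁻¹ * w * g ∈ ZK K := by
      have := (mem_normalizer_iff.mp (inv_mem hg) w).mp hw
      rwa [inv_inv] at this
    have h2 := mem_centralizer_iff.mp hc _ h1
    calc w * (g * c * g⁻¹) = g * (g⁻¹ * w * g * c) * g⁻¹ := by group
      _ = g * (c * (g⁻¹ * w * g)) * g⁻¹ := by rw [h2]
      _ = g * c * g⁻¹ * w := by group
  have hg2 : ∀ c ∈ centralizer (ZK K : Set G), g⁻¹ * c * g ∈ centralizer (ZK K : Set G) := by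
    intro c hc
    rw [mem_centralizer_iff]
    intro w hw
    have h1 : g * w * g⁻¹ ∈ ZK K := (mem_normalizer_iff.mp hg w).mp hw
    have h2 := mem_centralizer_iff.mp hc _ h1
    calc w * (g⁻¹ * c * g) = g⁻¹ * (g * w * g⁻¹ * c) * g := by group
      _ = g⁻¹ * (c * (g * w * g⁻¹)) * g := by rw [h2]
      _ = g⁻¹ * c * g * w := by group
  have k1 : cj g K ≤ normalizer (K : Set G) := by
    rintro _ ⟨k, hk, rfl⟩
    exact hnor _ (hg1 k (hKC hk))
  have k2 : K ≤ normalizer (cj g K : Set G) := by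
    intro k hk
    have h3 := hnor _ (hg2 k (hKC hk))
    apply mem_normalizer_of_cj_eq
    rw [← cj_mul, show k * g = g * (g⁻¹ * k * g) by group, cj_mul, cj_eq_of_mem_normalizer h3]
  rcases Cfsg.Agent.SignalizersComponents.StandardTools.le_or_le_centralizer h.c.qs k1 k2 with h5 | h5
  · exact hne (eq_of_le_of_card_ge h5 (by rw [card_cj])).symm
  · apply h.isStandard.2.2.1 g hne
    rw [commutator_comm, commutator_eq_bot_iff_le_centralizer]
    exact h5

/-- `N(E P) ≤ N(Z(K))` -/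
theorem Hyp.normalizer_sup_le (h : Hyp E K F n) {P : Subgroup G} (hP : IsSyl P K) :
    normalizer ((E ⊔ P : Subgroup G) : Set G) ≤ normalizer (ZK K : Set G) := by
  obtain ⟨t, ht, ht1⟩ := h.c.ne
  have key : ∀ x : G, x ∈ ZK K ↔
      (x ∈ centralizer ((E ⊔ P : Subgroup G) : Set G) ∧ x ^ Nat.card ↥(center ↥K) = 1) := by
    intro x
    constructor
    · intro hx
      obtain ⟨h1, h2⟩ := mem_ZK.mp hx
      refine ⟨?_, h.c.w_pow h1 h2⟩
      have h3 : (E ⊔ P : Subgroup G) ≤ centralizer ({x} : Set G) := by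
        rw [sup_le_iff]
        constructor
        · intro e he
          rw [mem_centralizer_iff]
          rintro _ rfl
          exact (h.c.Kc e he _ h1).symm
        · intro p hp
          rw [mem_centralizer_iff]
          rintro _ rfl
          exact (mem_centralizer_iff.mp h2 p (hP.le hp)).symm
      rw [mem_centralizer_iff]
      intro y hy
      exact (mem_centralizer_iff.mp (h3 hy) x rfl).symm
    · rintro ⟨h1, h2⟩
      have h3 : ∀ y ∈ (E ⊔ P : Subgroup G), x * y = y * x := fun y hy => (mem_centralizer_iff.mp h1 y hy).symm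
      have hxt : x * t = t * x := h3 t (mem_sup_left ht)
      have hxN := h.mem_normalizer ht ht1 hxt
      obtain ⟨s, hs, hsC⟩ := h.exists_of_comm hP hxN (fun s hs => h3 s (mem_sup_right hs))
      have hsK := hP.le hs
      have hst : s * t = t * s := (h.c.Kc t ht s hsK).symm
      have h5 : s⁻¹ * x * t = t * (s⁻¹ * x) := by
        calc s⁻¹ * x * t = s⁻¹ * (x * t) := by group
          _ = s⁻¹ * t * x := by rw [hxt]; group
          _ = s⁻¹ * (t * s) * s⁻¹ * x := by group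
          _ = t * (s⁻¹ * x) := by rw [← hst]; group
      obtain ⟨f, hf, w, hw, hwc, hfw⟩ := h.c.cK t ht ht1 _ h5 hsC
      have hx : x = s * f * w := by
        calc x = s * (s⁻¹ * x) := by group
          _ = s * f * w := by rw [hfw]; group
      have hsf : s * f = f * s := (h.c.Kc f hf s hsK).symm
      have hsw : s * w = w * s := mem_centralizer_iff.mp hwc s hsK
      have hfw' : f * w = w * f := h.c.Kc f hf w hw
      have hcomm : Commute (s * f) w := by
        show s * f * w = w * (s * f)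
        calc s * f * w = s * (f * w) := by group
          _ = s * w * f := by rw [hfw']; group
          _ = w * (s * f) := by rw [hsw]; group
      rw [hx, hcomm.mul_pow, h.c.w_pow hw hwc, mul_one] at h2
      have h6 : s * f = 1 :=
        ((Two.of_mem hP.two hs).mul (Two.of_mem h.c.E_two hf) hsf).eq_one_of_odd h.c.odd h2
      rw [hx, h6, one_mul]
      exact mem_ZK.mpr ⟨hw, hwc⟩
  have key2 : ∀ g ∈ normalizer ((E ⊔ P : Subgroup G) : Set G), ∀ x ∈ ZK K, g * x * g⁻¹ ∈ ZK K := by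
    intro g hg x hx
    rw [key] at hx ⊢
    obtain ⟨h1, h2⟩ := hx
    refine ⟨?_, by rw [conj_pow, h2]; group⟩
    rw [mem_centralizer_iff]
    intro y hy
    have h3 : g⁻¹ * y * g ∈ (E ⊔ P : Subgroup G) := by
      have := (mem_normalizer_iff.mp (inv_mem hg) y).mp hy
      rwa [inv_inv] at this
    have h4 := mem_centralizer_iff.mp h1 _ h3
    calc y * (g * x * g⁻¹) = g * (g⁻¹ * y * g * x) * g⁻¹ := by group
      _ = g * (x * (g⁻¹ * y * g)) * g⁻¹ := by rw [h4]
      _ = g * x * g⁻¹ * y := by group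
  intro g hg
  apply mem_normalizer_of
  · exact key2 g hg
  · intro x hx
    have := key2 g⁻¹ (inv_mem hg) x hx
    rwa [inv_inv] at this

/-- **Theorem B**: `E` is strongly closed in a Sylow 2-subgroup of `G` if `|E| ≥ 4`. -/
theorem Hyp.strongly_closed_of_four (h : Hyp E K F n) (h4 : ∃ e ∈ E, ∃ f ∈ E, e ≠ 1 ∧ f ≠ 1 ∧ e ≠ f) :
    ∃ S : Sylow 2 G, Cfsg.IsStronglyClosed E (S : Subgroup G) :=
  strongly_closed h h4 (fun _ hP => (h.normalizer_sup_le hP).trans (h.normalizer_ZK_le h4))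

end Cfsg.Agent.H298.UThree
end
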